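import Cfsg.Agent.Lib.DihedralNine.Core
import Mathlib.Algebra.BigOperators.Fin
import Mathlib.Algebra.BigOperators.Field
import Mathlib.Algebra.Order.BigOperators.Group.Finset
import Mathlib.Algebra.Order.BigOperators.Ring.Finset
import Mathlib.Data.Fin.Tuple.Sort
import Mathlib.Data.Fintype.EquivFin
import Mathlib.Data.Fintype.BigOperators
import Mathlib.Tactic.LinearCombination
import Mathlib.Tactic.Abel
import Mathlib.Tactic.FinCases

/-!
# The possible tables of character values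

`A` and `D` are the columns of the two classes of elements of order three, `B` and `C` those of two
classes of elements of order six powering to them, `y` is the column of the degrees.
-/

set_option autoImplicit false

namespace CfsgLib.DihedralNine

open Finset

/-- The numerical data extracted from the character table. -/
structure Table (ι : Type*) [Fintype ι] where
  o : ι
  n : ℕ
  y : ι → ℤ
  A : ι → ℤ
  D : ι → ℤ
  B : ι → ℤ
  C : ι → ℤ
  ypos : ∀ i, 0 < y i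
  yo : y o = 1
  Ao : A o = 1
  Do : D o = 1
  Bo : B o = 1
  Co : C o = 1
  y_ne_one : ∀ i, i ≠ o → y i ≠ 1
  AA : ∑ i, A i * A i = 18
  DD : ∑ i, D i * D i = 18
  AD : ∑ i, A i * D i = 0
  yA : ∑ i, y i * A i = 0
  yD : ∑ i, y i * D i = 0
  BB : ∑ i, B i * B i = 6
  CC : ∑ i, C i * C i = 6
  BC : ∑ i, B i * C i = 0
  AB : ∑ i, A i * B i = 0
  DB : ∑ i, D i * B i = 0
  yB : ∑ i, y i * B i = 0
  AC : ∑ i, A i * C i = 0
  DC : ∑ i, D i * C i = 0
  yC : ∑ i, y i * C i = 0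
  parB : ∀ i, 2 ∣ A i - B i
  parC : ∀ i, 2 ∣ D i - C i
  hAAD : (n : ℚ) * ∑ i, (A i : ℚ) * A i * D i / y i = 9
  hADD : (n : ℚ) * ∑ i, (A i : ℚ) * D i * D i / y i = 9
  hmod : ∀ i, 9 ∣ y i + 4 * A i + 4 * D i
  hnn : ∀ i, 0 ≤ y i + 4 * A i + 4 * D i
  hthree : ∀ i, 3 ∣ A i - D i
  hsq : ∑ i, y i * y i ≤ 72 * (n : ℤ)

set_option maxHeartbeats 1000000 in
theorem classify_aux : ∀ a b c d : Fin 9, a.val + b.val + c.val + d.val = 10 →
    a.val ≤ b.val → b.val ≤ c.val → c.val ≤ d.val →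
    ((a.val : ℤ) - 4) ^ 2 + ((b.val : ℤ) - 4) ^ 2 + ((c.val : ℤ) - 4) ^ 2 + ((d.val : ℤ) - 4) ^ 2 ≤ 17 →
    (a.val, b.val, c.val, d.val) ∈ [(1, 2, 3, 4), (1, 3, 3, 3), (2, 2, 2, 4), (2, 2, 3, 3)] := by
  decide +kernel

set_option maxHeartbeats 1000000 in
theorem classify {a b c d : ℤ} (hs : a + b + c + d = -6) (hab : a ≤ b) (hbc : b ≤ c) (hcd : c ≤ d)
    (hq : a ^ 2 + b ^ 2 + c ^ 2 + d ^ 2 ≤ 17) :
    (a = -3 ∧ b = -2 ∧ c = -1 ∧ d = 0) ∨ (a = -3 ∧ b = -1 ∧ c = -1 ∧ d = -1) ∨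
      (a = -2 ∧ b = -2 ∧ c = -2 ∧ d = 0) ∨ (a = -2 ∧ b = -2 ∧ c = -1 ∧ d = -1) := by
  have hbd : ∀ x : ℤ, x ^ 2 ≤ 17 → -4 ≤ x ∧ x ≤ 4 := fun x hx => by constructor <;> nlinarith
  have ha := hbd a (by nlinarith [sq_nonneg b, sq_nonneg c, sq_nonneg d])
  have hb := hbd b (by nlinarith [sq_nonneg a, sq_nonneg c, sq_nonneg d])
  have hc := hbd c (by nlinarith [sq_nonneg b, sq_nonneg a, sq_nonneg d])
  have hd := hbd d (by nlinarith [sq_nonneg b, sq_nonneg c, sq_nonneg a])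
  have h := classify_aux ⟨(a + 4).toNat, by omega⟩ ⟨(b + 4).toNat, by omega⟩ ⟨(c + 4).toNat, by omega⟩
    ⟨(d + 4).toNat, by omega⟩
  simp only [show ((a + 4).toNat : ℤ) = a + 4 by omega, show ((b + 4).toNat : ℤ) = b + 4 by omega,
    show ((c + 4).toNat : ℤ) = c + 4 by omega, show ((d + 4).toNat : ℤ) = d + 4 by omega, add_sub_cancel_right,
    List.mem_cons, Prod.mk.injEq, List.not_mem_nil, or_false] at h
  have h' := h (by omega) (by omega) (by omega) (by omega) hq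
  omega

/-- The signs determine the shape of the three signed degrees. -/
theorem three_signs {x₁ x₂ x₃ p₁ p₂ p₃ q₁ q₂ q₃ β γ z w₀ w₁ : ℤ}
    (hp₁ : p₁ = 1 ∨ p₁ = -1) (hp₂ : p₂ = 1 ∨ p₂ = -1) (hp₃ : p₃ = 1 ∨ p₃ = -1)
    (hq₁ : q₁ = 1 ∨ q₁ = -1) (hq₂ : q₂ = 1 ∨ q₂ = -1) (hq₃ : q₃ = 1 ∨ q₃ = -1)
    (hβ : β = 1 ∨ β = -1) (hγ : γ = 1 ∨ γ = -1)
    (hp : p₁ + p₂ + p₃ = -1) (hq : q₁ + q₂ + q₃ = -1) (hpq : p₁ * q₁ + p₂ * q₂ + p₃ * q₃ = -1)
    (hx₁ : x₁ ≠ 1) (hx₂ : x₂ ≠ 1) (hx₃ : x₃ ≠ 1)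
    (h₁ : 1 + (x₁ * p₁ + x₂ * p₂ + x₃ * p₃) + β * (w₀ - w₁) = 0)
    (h₂ : 1 + (x₁ * q₁ + x₂ * q₂ + x₃ * q₃) + γ * (w₀ - w₁) = 0)
    (h₃ : 1 + (x₁ + x₂ + x₃) + 2 * z = w₀ + w₁) :
    ∃ x r, ((x₁ = x ∧ x₂ = x ∧ x₃ = r) ∨ (x₁ = x ∧ x₃ = x ∧ x₂ = r) ∨ (x₂ = x ∧ x₃ = x ∧ x₁ = r)) ∧
      ((w₀ = 1 + x + z ∧ w₁ = x + r + z) ∨ (w₁ = 1 + x + z ∧ w₀ = x + r + z)) := by
  rcases hp₁ with rfl | rfl <;> rcases hp₂ with rfl | rfl <;> rcases hp₃ with rfl | rfl <;>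
    (try omega) <;>
    rcases hq₁ with rfl | rfl <;> rcases hq₂ with rfl | rfl <;> rcases hq₃ with rfl | rfl <;>
    (try omega)
  · exact ⟨x₁, x₃, Or.inl ⟨rfl, by rcases hβ with rfl | rfl <;> rcases hγ with rfl | rfl <;> omega, rfl⟩,
      by rcases hβ with rfl | rfl <;> rcases hγ with rfl | rfl <;> omega⟩
  · exact ⟨x₁, x₂, Or.inr (Or.inl ⟨rfl, by rcases hβ with rfl | rfl <;> rcases hγ with rfl | rfl <;> omega, rfl⟩),
      by rcases hβ with rfl | rfl <;> rcases hγ with rfl | rfl <;> omega⟩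
  · exact ⟨x₁, x₃, Or.inl ⟨rfl, by rcases hβ with rfl | rfl <;> rcases hγ with rfl | rfl <;> omega, rfl⟩,
      by rcases hβ with rfl | rfl <;> rcases hγ with rfl | rfl <;> omega⟩
  · exact ⟨x₂, x₁, Or.inr (Or.inr ⟨rfl, by rcases hβ with rfl | rfl <;> rcases hγ with rfl | rfl <;> omega, rfl⟩),
      by rcases hβ with rfl | rfl <;> rcases hγ with rfl | rfl <;> omega⟩
  · exact ⟨x₁, x₂, Or.inr (Or.inl ⟨rfl, by rcases hβ with rfl | rfl <;> rcases hγ with rfl | rfl <;> omega, rfl⟩),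
      by rcases hβ with rfl | rfl <;> rcases hγ with rfl | rfl <;> omega⟩
  · exact ⟨x₂, x₁, Or.inr (Or.inr ⟨rfl, by rcases hβ with rfl | rfl <;> rcases hγ with rfl | rfl <;> omega, rfl⟩),
      by rcases hβ with rfl | rfl <;> rcases hγ with rfl | rfl <;> omega⟩

theorem cube_div_ge {v y : ℤ} (hy : 0 < y) (h : 0 ≤ y + 8 * v) : -(v : ℚ) ^ 2 / 8 ≤ (v : ℚ) * v * v / y := by
  have hy' : (0 : ℚ) < y := by exact_mod_cast hy
  have h' : (0 : ℚ) ≤ y + 8 * v := by exact_mod_cast h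
  rw [div_le_div_iff₀ (by norm_num) hy']
  nlinarith [mul_nonneg (sq_nonneg (v : ℚ)) h']

theorem sq_emod_four (v : ℤ) : v ^ 2 % 4 = if v % 2 = 0 then 0 else 1 := by
  split_ifs with h
  · obtain ⟨k, rfl⟩ := Int.dvd_of_emod_eq_zero h
    rw [show (2 * k) ^ 2 = 4 * k ^ 2 by ring]; omega
  · obtain ⟨k, rfl⟩ : ∃ k, v = 2 * k + 1 := ⟨v / 2, by omega⟩
    rw [show (2 * k + 1) ^ 2 = 4 * (k ^ 2 + k) + 1 by ring]; omega

variable {ι : Type*} [Fintype ι] (T : Table ι)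

/-- The rows on which the two columns agree, the trivial one excepted. -/
noncomputable def Table.R : Finset ι := by
  classical exact Finset.univ.filter fun i => i ≠ T.o ∧ T.A i = T.D i

set_option maxHeartbeats 1000000 in
theorem exists_four : ∃ (i : Fin 4 → ι) (e s : Fin 4 → ℤ), Function.Injective i ∧
    (∀ j, T.A j ≠ T.D j ↔ ∃ k, i k = j) ∧ (∀ k, e k = 1 ∨ e k = -1) ∧
    (∀ k, T.A (i k) = e k * (s k + 3)) ∧ (∀ k, T.D (i k) = e k * s k) ∧ Monotone s := by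
  classical
  choose E hE using fun j => T.hthree j
  have hE2 : ∑ j, E j ^ 2 = 4 := by
    have h : 9 * ∑ j, E j ^ 2 = 36 := by
      rw [mul_sum, sum_congr rfl fun j _ => show 9 * E j ^ 2 = T.A j * T.A j - 2 * (T.A j * T.D j) + T.D j * T.D j by
        linear_combination (-(T.A j - T.D j) - 3 * E j) * hE j]
      rw [sum_add_distrib, sum_sub_distrib, ← mul_sum, T.AA, T.AD, T.DD]; norm_num
    omega
  have hyE : ∑ j, T.y j * E j = 0 := by
    have h : 3 * ∑ j, T.y j * E j = 0 := by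
      rw [mul_sum, sum_congr rfl fun j _ => show 3 * (T.y j * E j) = T.y j * T.A j - T.y j * T.D j by
        linear_combination (-(T.y j)) * hE j, sum_sub_distrib, T.yA, T.yD, sub_zero]
    omega
  have hunit : ∀ j, E j = -1 ∨ E j = 0 ∨ E j = 1 := by
    intro j
    by_contra hj
    have h4 : 4 ≤ E j ^ 2 := by
      rcases (show E j ≤ -2 ∨ 2 ≤ E j by omega) with h | h <;> nlinarith
    have hz : ∀ k, k ≠ j → E k = 0 := fun k hk => by
      have h := add_le_sum (f := fun l => E l ^ 2) (fun l _ => sq_nonneg _) (mem_univ j) (mem_univ k) hk.symm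
      rw [hE2] at h
      exact pow_eq_zero_iff two_ne_zero |>.mp (le_antisymm (by linarith) (sq_nonneg _))
    rw [sum_eq_single j (fun k _ hk => by rw [hz k hk, mul_zero]) (fun h => absurd (mem_univ j) h)] at hyE
    rcases mul_eq_zero.mp hyE with h | h
    · exact (T.ypos j).ne' h
    · rw [h] at h4; norm_num at h4
  set S := Finset.univ.filter fun j => T.A j ≠ T.D j with hSdef
  have hES : ∀ j, j ∈ S ↔ E j ≠ 0 := fun j => by
    rw [hSdef, mem_filter]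
    have := hE j
    constructor
    · rintro ⟨-, h⟩ h0; omega
    · intro h; exact ⟨mem_univ _, by omega⟩
  have hcard : S.card = 4 := by
    have h : ∀ j, E j ^ 2 = if j ∈ S then 1 else 0 := fun j => by
      by_cases hj : j ∈ S
      · rw [if_pos hj]
        rcases hunit j with h | h | h
        · rw [h]; rfl
        · exact absurd h ((hES j).mp hj)
        · rw [h]; rfl
      · rw [if_neg hj, show E j = 0 from not_not.mp fun h => hj ((hES j).mpr h)]; rfl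
    rw [sum_congr rfl fun j _ => h j, sum_boole, filter_mem_eq_inter, univ_inter] at hE2
    exact_mod_cast hE2
  let e0 : Fin 4 ≃ S := (S.equivFinOfCardEq hcard).symm
  let σ := Tuple.sort fun k => E (e0 k) * T.D (e0 k)
  have hpm : ∀ k, E (e0 (σ k)) = 1 ∨ E (e0 (σ k)) = -1 := fun k => by
    have h := (hES _).mp (e0 (σ k)).2
    rcases hunit (e0 (σ k) : ι) with h' | h' | h'
    · exact Or.inr h'
    · exact absurd h' h
    · exact Or.inl h'
  refine ⟨fun k => e0 (σ k), fun k => E (e0 (σ k)), fun k => E (e0 (σ k)) * T.D (e0 (σ k)), ?_, ?_,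
    hpm, fun k => ?_, fun k => ?_, Tuple.monotone_sort fun k => E (e0 k) * T.D (e0 k)⟩
  · exact Subtype.val_injective.comp (e0.injective.comp σ.injective)
  · intro j
    constructor
    · intro hj
      exact ⟨σ.symm (e0.symm ⟨j, mem_filter.mpr ⟨mem_univ _, hj⟩⟩), by simp⟩
    · rintro ⟨k, rfl⟩
      exact (mem_filter.mp (e0 (σ k)).2).2
  · have := hE (e0 (σ k))
    rcases hpm k with h | h <;> simp only [h] at this ⊢ <;> omega
  · rcases hpm k with h | h <;> simp only [h] <;> ring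

/-- Any sum over all rows splits into the trivial row, the four special rows and the rest. -/
theorem sum_split {M : Type*} [AddCommMonoid M] {i : Fin 4 → ι} (hi : Function.Injective i)
    (hiS : ∀ j, T.A j ≠ T.D j ↔ ∃ k, i k = j) (f : ι → M) :
    ∑ j, f j = f T.o + (f (i 0) + f (i 1) + f (i 2) + f (i 3)) + ∑ j ∈ T.R, f j := by
  classical
  rw [← sum_filter_add_sum_filter_not univ (fun j => T.A j ≠ T.D j) f]
  have h1 : univ.filter (fun j => T.A j ≠ T.D j) = univ.image i := by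
    ext j; simp [hiS]
  have h2 : univ.filter (fun j => ¬T.A j ≠ T.D j) = insert T.o T.R := by
    ext j
    simp only [Table.R, mem_filter, mem_univ, true_and, not_not, mem_insert]
    refine ⟨fun h => ?_, fun h => ?_⟩
    · by_cases hj : j = T.o
      · exact Or.inl hj
      · exact Or.inr ⟨hj, h⟩
    · rcases h with rfl | h
      · rw [T.Ao, T.Do]
      · exact h.2
  rw [h1, h2, sum_image (fun a _ b _ h => hi h), sum_insert (by simp [Table.R]), Fin.sum_univ_four]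
  abel

set_option maxHeartbeats 4000000 in
/-- The case `s = (-2, -2, -1, -1)`. -/
theorem possible_eight (hn1 : 1 < T.n) (hn9 : T.n % 9 = 1) {i : Fin 4 → ι} {e s : Fin 4 → ℤ}
    (hi : Function.Injective i) (hiS : ∀ j, T.A j ≠ T.D j ↔ ∃ k, i k = j) (he : ∀ k, e k = 1 ∨ e k = -1)
    (hA : ∀ k, T.A (i k) = e k * (s k + 3)) (hD : ∀ k, T.D (i k) = e k * s k)
    (hwmod : ∀ k, (e k * T.y (i k) + 4 * (2 * s k + 3)) % 9 = 0)
    (h0 : s 0 = -2) (h1 : s 1 = -2) (h2 : s 2 = -1) (h3 : s 3 = -1)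
    (hsq7 : ∑ j ∈ T.R, T.D j * T.D j = 7) (u : Fin 4 → ℚ) (hu : ∀ k, u k = (e k : ℚ) / (T.y (i k) : ℚ))
    (hu0 : u 0 + u 1 + u 2 + u 3 = 0) {V : ℚ}
    (hV : V = ∑ j ∈ T.R, (T.D j : ℚ) * T.D j * T.D j / T.y j)
    (htotV : (T.n : ℚ) * (1 + V + 2 * (u 0 + u 1)) = 9) :
    (T.n ≤ 91 ∧ T.n ≠ 55) ∨ (7 ∣ T.n ∧ ∃ j, T.y j = 5 ∧ T.A j = -1 ∧ T.D j = 2 ∧
      ∀ j', T.y j' = 5 → T.A j' = -1 → T.D j' = 2 → j' = j) := by
  classical
  have he2 : ∀ k, e k * e k = 1 := fun k => by rcases he k with h | h <;> rw [h] <;> rfl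
  have hR : ∀ j ∈ T.R, j ≠ T.o ∧ T.A j = T.D j := fun j hj => by
    simpa [Table.R] using hj
  have hsplit := fun (f : ι → ℤ) => sum_split T hi hiS f
  have hy0 : ∀ j, (T.y j : ℚ) ≠ 0 := fun j => Int.cast_ne_zero.mpr (T.ypos j).ne'
  set O := T.R.filter fun j => T.D j % 2 ≠ 0 with hO
  set Z := T.R.filter fun j => ¬T.D j % 2 ≠ 0 with hZ
  have hOZ : ∀ f : ι → ℤ, ∑ j ∈ T.R, f j = ∑ j ∈ O, f j + ∑ j ∈ Z, f j := fun f =>
    (sum_filter_add_sum_filter_not _ _ _).symm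
  have hOodd : ∀ j ∈ O, T.A j = T.D j ∧ T.D j % 2 = 1 := fun j hj => by
    obtain ⟨h, h'⟩ := mem_filter.mp hj
    exact ⟨(hR j h).2, by omega⟩
  have hone : ∀ (v : ℤ), v % 2 = 1 → 1 ≤ v * v := fun v hv => by
    have : v ≠ 0 := by omega
    exact Int.add_one_le_iff.mpr (mul_self_pos.mpr this)
  have hcardO : O.card = 3 := by
    have hlow : (O.card : ℤ) ≤ ∑ j ∈ O, T.B j * T.B j := by
      rw [card_eq_sum_ones, Nat.cast_sum, Nat.cast_one]
      refine sum_le_sum fun j hj => hone _ ?_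
      have := T.parB j; have := hOodd j hj
      omega
    have hBB := T.BB
    rw [hsplit, T.Bo, hOZ] at hBB
    have hb0 := hone (T.B (i 0)) (by
      have := T.parB (i 0); rw [hA, h0] at this; rcases he 0 with h | h <;> rw [h] at this <;> omega)
    have hb1 := hone (T.B (i 1)) (by
      have := T.parB (i 1); rw [hA, h1] at this; rcases he 1 with h | h <;> rw [h] at this <;> omega)
    have hle : O.card ≤ 3 := by
      have : 0 ≤ ∑ j ∈ Z, T.B j * T.B j := sum_nonneg fun j _ => mul_self_nonneg _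
      have := mul_self_nonneg (T.B (i 2)); have := mul_self_nonneg (T.B (i 3))
      have : (O.card : ℤ) ≤ 3 := by linarith
      exact_mod_cast this
    have hmod4 : (∑ j ∈ T.R, T.D j * T.D j) % 4 = (O.card : ℤ) % 4 := by
      rw [Finset.sum_int_mod]
      simp only [← sq, sq_emod_four]
      rw [sum_ite, sum_const_zero, zero_add, sum_const, nsmul_one, hO]
    rw [hsq7] at hmod4
    omega
  obtain ⟨j₁, j₂, j₃, h12, h13, h23, hO3⟩ := card_eq_three.mp hcardO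
  have hsumO : ∀ f : ι → ℤ, ∑ j ∈ O, f j = f j₁ + f j₂ + f j₃ := fun f => by
    rw [hO3, sum_insert (by simp [h12, h13]), sum_pair h23, add_assoc]
  have hj₁ := hOodd j₁ (by rw [hO3]; simp)
  have hj₂ := hOodd j₂ (by rw [hO3]; simp)
  have hj₃ := hOodd j₃ (by rw [hO3]; simp)
  -- the tight bounds
  have htight : ∀ (Y : ι → ℤ) (a b c d : Fin 4), T.y T.o = 1 → Y T.o = 1 →
      ∑ j, Y j * Y j = 6 → (∀ j ∈ O, Y j % 2 = 1) → Y (i a) % 2 = 1 → Y (i b) % 2 = 1 →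
      Y (i 0) * Y (i 0) + Y (i 1) * Y (i 1) + Y (i 2) * Y (i 2) + Y (i 3) * Y (i 3) =
        Y (i a) * Y (i a) + Y (i b) * Y (i b) + (Y (i c) * Y (i c) + Y (i d) * Y (i d)) →
      (Y j₁ * Y j₁ = 1 ∧ Y j₂ * Y j₂ = 1 ∧ Y j₃ * Y j₃ = 1) ∧ Y (i a) * Y (i a) = 1 ∧ Y (i b) * Y (i b) = 1 ∧
        Y (i c) = 0 ∧ Y (i d) = 0 ∧ ∀ j ∈ Z, Y j = 0 := by
    intro Y a b c d _ hYo hYY hYO hYa hYb hperm
    rw [hsplit, hYo, hOZ, hsumO] at hYY
    have := hone _ (hYO j₁ (by rw [hO3]; simp))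
    have := hone _ (hYO j₂ (by rw [hO3]; simp))
    have := hone _ (hYO j₃ (by rw [hO3]; simp))
    have := hone _ hYa; have := hone _ hYb
    have hc0 := mul_self_nonneg (Y (i c)); have hd0 := mul_self_nonneg (Y (i d))
    have hz0 : 0 ≤ ∑ j ∈ Z, Y j * Y j := sum_nonneg fun j _ => mul_self_nonneg _
    refine ⟨⟨by linarith, by linarith, by linarith⟩, by linarith, by linarith,
      mul_self_eq_zero.mp (by linarith), mul_self_eq_zero.mp (by linarith), fun j hj => ?_⟩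
    exact mul_self_eq_zero.mp ((sum_eq_zero_iff_of_nonneg fun j _ => mul_self_nonneg _).mp (by linarith) j hj)
  obtain ⟨hBj, hB0, hB1, hB2, hB3, hBZ⟩ := htight T.B 0 1 2 3 T.yo T.Bo T.BB
    (fun j hj => by have := T.parB j; have := hOodd j hj; omega)
    (by have := T.parB (i 0); rw [hA, h0] at this; rcases he 0 with h | h <;> rw [h] at this <;> omega)
    (by have := T.parB (i 1); rw [hA, h1] at this; rcases he 1 with h | h <;> rw [h] at this <;> omega)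
    (by ring)
  obtain ⟨hCj, hC2, hC3, hC0, hC1, hCZ⟩ := htight T.C 2 3 0 1 T.yo T.Co T.CC
    (fun j hj => by have := T.parC j; have := hOodd j hj; omega)
    (by have := T.parC (i 2); rw [hD, h2] at this; rcases he 2 with h | h <;> rw [h] at this <;> omega)
    (by have := T.parC (i 3); rw [hD, h3] at this; rcases he 3 with h | h <;> rw [h] at this <;> omega)
    (by ring)
  -- the values on the odd rows are signs, and one even row is left
  have hsq7' := hsq7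
  rw [hOZ, hsumO] at hsq7'
  have hd1 := hone _ hj₁.2; have hd2 := hone _ hj₂.2; have hd3 := hone _ hj₃.2
  have hz0 : 0 ≤ ∑ j ∈ Z, T.D j * T.D j := sum_nonneg fun j _ => mul_self_nonneg _
  have hunit : ∀ v : ℤ, v % 2 = 1 → v * v ≤ 5 → v = 1 ∨ v = -1 := fun v hv h => by
    have : -2 ≤ v ∧ v ≤ 2 := ⟨by nlinarith, by nlinarith⟩
    omega
  have hv₁ := hunit _ hj₁.2 (by linarith)
  have hv₂ := hunit _ hj₂.2 (by linarith)
  have hv₃ := hunit _ hj₃.2 (by linarith)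
  have hsq1 : ∀ v : ℤ, (v = 1 ∨ v = -1) → v * v = 1 := fun v hv => by rcases hv with rfl | rfl <;> rfl
  rw [hsq1 _ hv₁, hsq1 _ hv₂, hsq1 _ hv₃] at hsq7'
  have hZ4 : ∑ j ∈ Z, T.D j * T.D j = 4 := by linarith
  obtain ⟨j₀, hj₀, hj₀0⟩ : ∃ j ∈ Z, T.D j * T.D j ≠ 0 := exists_ne_zero_of_sum_ne_zero (by omega)
  have heven : ∀ j ∈ Z, T.D j % 2 = 0 := fun j hj => by have := (mem_filter.mp hj).2; omega
  have hj₀2 : T.D j₀ = 2 ∨ T.D j₀ = -2 := by
    have h := single_le_sum (f := fun j => T.D j * T.D j) (fun j _ => mul_self_nonneg _) hj₀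
    rw [hZ4] at h
    have : -2 ≤ T.D j₀ ∧ T.D j₀ ≤ 2 := ⟨by nlinarith, by nlinarith⟩
    have : T.D j₀ ≠ 0 := fun h0 => hj₀0 (by rw [h0, zero_mul])
    have := heven j₀ hj₀
    omega
  have hother : ∀ j ∈ Z, j ≠ j₀ → T.D j = 0 := fun j hj hne => by
    have h := add_le_sum (f := fun j => T.D j * T.D j) (fun j _ => mul_self_nonneg _) hj₀ hj hne.symm
    rw [hZ4] at h
    refine mul_self_eq_zero.mp (le_antisymm ?_ (mul_self_nonneg _))
    rcases hj₀2 with e | e <;> simp only [e] at h <;> linarith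
  have hsumZ : ∀ f : ι → ℤ, (∀ j ∈ Z, T.D j = 0 → f j = 0) → ∑ j ∈ Z, f j = f j₀ := fun f hf =>
    sum_eq_single_of_mem j₀ hj₀ fun j hj hne => hf j hj (hother j hj hne)
  have hRz : T.A j₀ = T.D j₀ := (hR j₀ (mem_filter.mp hj₀).1).2
  have hzB : T.B j₀ = 0 := hBZ j₀ hj₀
  have hzC : T.C j₀ = 0 := hCZ j₀ hj₀
  -- the column relations
  have zero_R : ∀ f : ι → ℤ, (∀ j ∈ Z, f j = 0) → ∑ j ∈ T.R, f j = f j₁ + f j₂ + f j₃ := fun f hf => by
    rw [hOZ, hsumO, sum_eq_zero hf, add_zero]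
  have hAB := T.AB; have hDB := T.DB; have hyB := T.yB
  rw [hsplit, zero_R _ (fun j hj => by rw [hBZ j hj, mul_zero])] at hAB hDB hyB
  simp only [T.Ao, T.Do, T.Bo, T.yo, hA, hD, h0, h1, h2, h3, hB2, hB3, mul_zero, add_zero, hj₁.1, hj₂.1, hj₃.1,
    mul_one] at hAB hDB hyB
  have hAC := T.AC; have hDC := T.DC; have hyC := T.yC
  rw [hsplit, zero_R _ (fun j hj => by rw [hCZ j hj, mul_zero])] at hAC hDC hyC
  simp only [T.Ao, T.Do, T.Co, T.yo, hA, hD, h0, h1, h2, h3, hC0, hC1, mul_zero, add_zero, zero_add, hj₁.1, hj₂.1,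
    hj₃.1, mul_one] at hAC hDC hyC
  have hBC := T.BC
  rw [hsplit, zero_R _ (fun j hj => by rw [hBZ j hj, zero_mul])] at hBC
  simp only [T.Bo, T.Co, hB2, hB3, hC0, hC1, mul_zero, zero_mul, add_zero, mul_one] at hBC
  have hRy : ∑ j ∈ T.R, T.y j * T.A j = ∑ j ∈ T.R, T.y j * T.D j :=
    sum_congr rfl fun j hj => by rw [(hR j hj).2]
  have hyA := T.yA; have hyD := T.yD
  rw [hsplit] at hyA hyD
  rw [hRy] at hyA
  simp only [T.Ao, T.Do, T.yo, hA, hD, h0, h1, h2, h3, hOZ, hsumO, mul_one,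
    hsumZ (fun j => T.y j * T.D j) (fun j _ h => by rw [h, mul_zero])] at hyA hyD
  -- name the unknowns
  obtain ⟨v', hv', hv'2⟩ : ∃ v', (v' = 1 ∨ v' = -1) ∧ T.D j₀ = 2 * v' := by
    rcases hj₀2 with h | h
    · exact ⟨1, Or.inl rfl, h⟩
    · exact ⟨-1, Or.inr rfl, h⟩
  set w : Fin 4 → ℤ := fun k => e k * T.y (i k) with hw
  set z := v' * T.y j₀ with hz
  have hW : w 0 + w 1 + w 2 + w 3 = 0 := by
    simp only [hw]; linarith
  have hw9 : ∀ k, k = 0 ∨ k = 1 → w k % 9 = 4 := fun k hk => by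
    have h := hwmod k
    rcases hk with rfl | rfl <;> simp only [hw, h0, h1] at h ⊢ <;> omega
  have hwne : ∀ k, (w k : ℚ) ≠ 0 := fun k => by
    rw [Int.cast_ne_zero]; simp only [hw]
    exact mul_ne_zero (by rcases he k with h | h <;> rw [h] <;> norm_num) (T.ypos _).ne'
  have huw : ∀ k, u k = 1 / (w k : ℚ) := fun k => by
    have := hy0 (i k)
    simp only [hu, hw]; push_cast
    rcases he k with h | h <;> rw [h] <;> field_simp <;> norm_num
  have hpair : (w 2 = -w 0 ∧ w 3 = -w 1) ∨ (w 2 = -w 1 ∧ w 3 = -w 0) := by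
    have hne : w 0 + w 1 ≠ 0 := by have := hw9 0 (Or.inl rfl); have := hw9 1 (Or.inr rfl); omega
    have h23 : w 2 + w 3 = -(w 0 + w 1) := by linarith
    have hprod : w 2 * w 3 = w 0 * w 1 := by
      rw [huw, huw, huw, huw] at hu0
      have e1 := hwne 0; have e2 := hwne 1; have e3 := hwne 2; have e4 := hwne 3
      field_simp at hu0
      have h : (w 1 * w 2 * w 3 + w 0 * w 2 * w 3 + w 0 * w 1 * w 3 + w 0 * w 1 * w 2 : ℤ) = 0 := by
        apply Int.cast_injective (α := ℚ); push_cast; linear_combination hu0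
      have h' : (w 0 + w 1) * (w 2 * w 3 - w 0 * w 1) = 0 := by linear_combination h - w 0 * w 1 * h23
      exact sub_eq_zero.mp ((mul_eq_zero.mp h').resolve_left hne)
    have h' : (w 2 + w 0) * (w 2 + w 1) = 0 := by linear_combination w 2 * h23 - hprod
    rcases mul_eq_zero.mp h' with h | h
    · exact Or.inl ⟨by linarith, by linarith⟩
    · exact Or.inr ⟨by linarith, by linarith⟩
  have heB : e 0 * T.B (i 0) + e 1 * T.B (i 1) = 0 := by linarith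
  have heC : e 2 * T.C (i 2) + e 3 * T.C (i 3) = 0 := by linarith
  have hpm : ∀ a b : ℤ, a * a = 1 → b * b = 1 → a * b = 1 ∨ a * b = -1 := fun a b ha hb =>
    mul_self_eq_one_iff.mp (by linear_combination b * b * ha + hb)
  set x₁ := T.D j₁ * T.y j₁ with hx₁
  set x₂ := T.D j₂ * T.y j₂ with hx₂
  set x₃ := T.D j₃ * T.y j₃ with hx₃
  set β := e 0 * T.B (i 0) with hβ
  set γ0 := e 2 * T.C (i 2) with hγ0
  have hy1 : 1 + (x₁ * (T.D j₁ * T.B j₁) + x₂ * (T.D j₂ * T.B j₂) + x₃ * (T.D j₃ * T.B j₃)) +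
      β * (w 0 - w 1) = 0 := by
    simp only [hx₁, hx₂, hx₃, hβ, hw]
    linear_combination hyB + T.B (i 0) * T.y (i 0) * he2 0 + T.B (i 1) * T.y (i 1) * he2 1 -
      e 1 * T.y (i 1) * heB + T.y j₁ * T.B j₁ * hsq1 _ hv₁ + T.y j₂ * T.B j₂ * hsq1 _ hv₂ +
      T.y j₃ * T.B j₃ * hsq1 _ hv₃
  have hy2 : 1 + (x₁ * (T.D j₁ * T.C j₁) + x₂ * (T.D j₂ * T.C j₂) + x₃ * (T.D j₃ * T.C j₃)) +
      γ0 * (w 2 - w 3) = 0 := by
    simp only [hx₁, hx₂, hx₃, hγ0, hw]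
    linear_combination hyC + T.C (i 2) * T.y (i 2) * he2 2 + T.C (i 3) * T.y (i 3) * he2 3 -
      e 3 * T.y (i 3) * heC + T.y j₁ * T.C j₁ * hsq1 _ hv₁ + T.y j₂ * T.C j₂ * hsq1 _ hv₂ +
      T.y j₃ * T.C j₃ * hsq1 _ hv₃
  obtain ⟨γ, hγ, hy2'⟩ : ∃ γ, (γ = 1 ∨ γ = -1) ∧ 1 + (x₁ * (T.D j₁ * T.C j₁) + x₂ * (T.D j₂ * T.C j₂) +
      x₃ * (T.D j₃ * T.C j₃)) + γ * (w 0 - w 1) = 0 := by
    have hg : γ0 = 1 ∨ γ0 = -1 := hpm _ _ (he2 2) hC2
    rcases hpair with ⟨ha, hb⟩ | ⟨ha, hb⟩ <;> rw [ha, hb] at hy2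
    · exact ⟨-γ0, by omega, by linear_combination hy2⟩
    · exact ⟨γ0, hg, by linear_combination hy2⟩
  have hy3 : 1 + (x₁ + x₂ + x₃) + 2 * z = w 0 + w 1 := by
    simp only [hx₁, hx₂, hx₃, hz]
    have : T.y j₀ * T.D j₀ = 2 * (v' * T.y j₀) := by rw [hv'2]; ring
    simp only [hw] at hW ⊢
    linarith
  have hxne : ∀ j, j ≠ T.o → (T.D j = 1 ∨ T.D j = -1) → T.D j * T.y j ≠ 1 := fun j hj hv h => by
    rcases hv with e | e <;> rw [e] at h
    · exact T.y_ne_one j hj (by linarith)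
    · linarith [T.ypos j]
  have hjo : ∀ j ∈ T.R, j ≠ T.o := fun j hj => (hR j hj).1
  have hjR : j₁ ∈ T.R ∧ j₂ ∈ T.R ∧ j₃ ∈ T.R := by
    have h : ∀ j ∈ O, j ∈ T.R := fun j hj => (mem_filter.mp hj).1
    exact ⟨h _ (by rw [hO3]; simp), h _ (by rw [hO3]; simp), h _ (by rw [hO3]; simp)⟩
  obtain ⟨x, r, hxr, hwxr⟩ := three_signs
    (hpm _ _ (hsq1 _ hv₁) hBj.1) (hpm _ _ (hsq1 _ hv₂) hBj.2.1) (hpm _ _ (hsq1 _ hv₃) hBj.2.2)
    (hpm _ _ (hsq1 _ hv₁) hCj.1) (hpm _ _ (hsq1 _ hv₂) hCj.2.1) (hpm _ _ (hsq1 _ hv₃) hCj.2.2)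
    (hpm _ _ (he2 0) hB0) hγ (by linarith) (by linarith)
    (by linear_combination hBC + T.B j₁ * T.C j₁ * hsq1 _ hv₁ + T.B j₂ * T.C j₂ * hsq1 _ hv₂ +
      T.B j₃ * T.C j₃ * hsq1 _ hv₃)
    (hxne _ (hjo _ hjR.1) hv₁) (hxne _ (hjo _ hjR.2.1) hv₂) (hxne _ (hjo _ hjR.2.2) hv₃)
    hy1 hy2' hy3
  clear_value x₁ x₂ x₃
  simp only [← hx₁, ← hx₂, ← hx₃] at hxr
  have hxgood : ∀ j ∈ T.R, (T.D j = 1 ∨ T.D j = -1) →
      (T.D j * T.y j) % 9 = 1 ∧ (T.D j * T.y j ≤ -8 ∨ 10 ≤ T.D j * T.y j) := fun j hj hv => by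
    have m1 := T.hmod j; have m2 := T.hnn j; have m3 := T.y_ne_one j (hR j hj).1
    have m4 := T.ypos j
    rw [(hR j hj).2] at m1 m2
    rcases hv with e | e <;> rw [e] at m1 m2 ⊢ <;> omega
  have hzgood : z % 9 = 2 ∧ (2 ≤ z ∨ z ≤ -16) := by
    have m1 := T.hmod j₀; have m2 := T.hnn j₀; have m4 := T.ypos j₀
    rw [hRz, hv'2] at m1 m2
    simp only [hz]
    rcases hv' with e | e <;> rw [e] at m1 m2 ⊢ <;> omega
  have hg₁ := hxgood _ hjR.1 hv₁; have hg₂ := hxgood _ hjR.2.1 hv₂; have hg₃ := hxgood _ hjR.2.2 hv₃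
  rw [← hx₁] at hg₁; rw [← hx₂] at hg₂; rw [← hx₃] at hg₃
  have hxg : x % 9 = 1 ∧ (x ≤ -8 ∨ 10 ≤ x) ∧ r % 9 = 1 ∧ (r ≤ -8 ∨ 10 ≤ r) := by
    rcases hxr with ⟨a, b, c⟩ | ⟨a, b, c⟩ | ⟨a, b, c⟩ <;> omega
  -- the equation and the bound
  have hVv : V = 1 / (x₁ : ℚ) + 1 / (x₂ : ℚ) + 1 / (x₃ : ℚ) + 8 / (z : ℚ) := by
    have h4 : ∀ j, (T.D j = 1 ∨ T.D j = -1) →
        (T.D j : ℚ) * T.D j * T.D j / T.y j = 1 / ((T.D j * T.y j : ℤ) : ℚ) := fun j hv => by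
      have := hy0 j
      rcases hv with e | e <;> rw [e] <;> push_cast <;> field_simp <;> norm_num
    have hz8 : (T.D j₀ : ℚ) * T.D j₀ * T.D j₀ / T.y j₀ = 8 / (z : ℚ) := by
      have := hy0 j₀
      simp only [hz, hv'2]
      rcases hv' with e | e <;> rw [e] <;> push_cast <;> field_simp <;> norm_num
    rw [hV, ← sum_filter_add_sum_filter_not T.R (fun j => T.D j % 2 ≠ 0), ← hO, ← hZ, hO3,
      sum_insert (by simp [h12, h13]), sum_pair h23,
      sum_eq_single_of_mem j₀ hj₀ (fun j hj hne => by rw [hother j hj hne]; simp),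
      h4 _ hv₁, h4 _ hv₂, h4 _ hv₃, hz8, ← hx₁, ← hx₂, ← hx₃]
    ring
  have hVxr : V = 2 / (x : ℚ) + 1 / (r : ℚ) + 8 / (z : ℚ) := by
    rw [hVv]; rcases hxr with ⟨a, b, c⟩ | ⟨a, b, c⟩ | ⟨a, b, c⟩ <;> rw [a, b, c] <;> ring
  have htot : (T.n : ℚ) * tot x r z = 9 := by
    have h := htotV
    rw [huw, huw, hVxr] at h
    rw [tot]
    rcases hwxr with ⟨a, b⟩ | ⟨a, b⟩ <;> rw [a, b] at h <;> linear_combination h
  have hQ : 1 + 2 * x ^ 2 + r ^ 2 + z ^ 2 + 2 * ((1 + x + z) ^ 2 + (x + r + z) ^ 2) ≤ 72 * (T.n : ℤ) := by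
    have h := T.hsq
    rw [hsplit, hOZ, hsumO, T.yo] at h
    have hz' := single_le_sum (f := fun j => T.y j * T.y j) (fun j _ => mul_self_nonneg _) hj₀
    have e1 : ∀ j, (T.D j = 1 ∨ T.D j = -1) → T.y j * T.y j = (T.D j * T.y j) ^ 2 := fun j hv => by
      rcases hv with e | e <;> rw [e] <;> ring
    have e2 : ∀ k, T.y (i k) * T.y (i k) = w k ^ 2 := fun k => by
      simp only [hw]; rcases he k with e | e <;> rw [e] <;> ring
    have e3 : T.y j₀ * T.y j₀ = z ^ 2 := by rw [hz]; rcases hv' with e | e <;> rw [e] <;> ring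
    rw [e1 _ hv₁, e1 _ hv₂, e1 _ hv₃, e2, e2, e2, e2, ← hx₁, ← hx₂, ← hx₃] at h
    rw [e3] at hz'
    rcases hpair with ⟨a, b⟩ | ⟨a, b⟩ <;> rw [a, b] at h <;>
      rcases hwxr with ⟨c, d⟩ | ⟨c, d⟩ <;> rw [c, d] at h <;>
      rcases hxr with ⟨f, g, k⟩ | ⟨f, g, k⟩ | ⟨f, g, k⟩ <;> rw [f, g, k] at h <;> linarith
  by_cases hsmall : T.n ≤ 91
  · refine Or.inl ⟨hsmall, fun h55 => ?_⟩
    exact ne55 x r z hxg.1 hxg.2.2.1 hzgood.1 (by omega) (by omega) (by rw [h55] at htot; exact_mod_cast htot)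
      (by rw [h55] at hQ; exact_mod_cast hQ)
  · obtain ⟨hn, hw5⟩ := large (T.n : ℤ) x r z (by omega) (by omega) hxg.1 hxg.2.2.1 hzgood.1 hxg.2.1 hxg.2.2.2
      hzgood.2 (by exact_mod_cast htot) hQ
    refine Or.inr ⟨by omega, ?_⟩
    obtain ⟨k, hk, hk5, huniq⟩ : ∃ k : Fin 4, (k = 0 ∨ k = 1) ∧ w k = -5 ∧
        ∀ k', (k' = 0 ∨ k' = 1) → w k' = -5 → k' = k := by
      rcases (show w 0 = -5 ∨ w 1 = -5 by rcases hwxr with ⟨a, b⟩ | ⟨a, b⟩ <;> omega) with h | h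
      · refine ⟨0, Or.inl rfl, h, fun k' hk' h' => ?_⟩
        rcases hk' with rfl | rfl
        · rfl
        · rcases hwxr with ⟨a, b⟩ | ⟨a, b⟩ <;> omega
      · refine ⟨1, Or.inr rfl, h, fun k' hk' h' => ?_⟩
        rcases hk' with rfl | rfl
        · rcases hwxr with ⟨a, b⟩ | ⟨a, b⟩ <;> omega
        · rfl
    have hek : e k = -1 := by
      rcases he k with h | h
      · simp only [hw, h, one_mul] at hk5; linarith [T.ypos (i k)]
      · exact h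
    have hyk : T.y (i k) = 5 := by simp only [hw, hek] at hk5; linarith
    have hsk : ∀ k, (k = 0 ∨ k = 1) → s k = -2 := fun k hk => by rcases hk with rfl | rfl <;> assumption
    refine ⟨i k, hyk, by rw [hA, hek, hsk k hk]; norm_num, by rw [hD, hek, hsk k hk]; norm_num, fun j hy hAj hDj => ?_⟩
    obtain ⟨k', rfl⟩ := (hiS j).mp (by rw [hAj, hDj]; norm_num)
    rw [hA] at hAj; rw [hD] at hDj
    have hek' : e k' = -1 := by
      rcases he k' with h | h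
      · rw [h] at hAj hDj; omega
      · exact h
    have hs' : s k' = -2 := by rw [hek'] at hDj; omega
    refine congrArg i (huniq k' ?_ (by simp only [hw, hek', hy]; norm_num))
    fin_cases k'
    · exact Or.inl rfl
    · exact Or.inr rfl
    · exfalso; revert hs'; simp only [show (⟨2, by decide⟩ : Fin 4) = 2 from rfl, h2]; norm_num
    · exfalso; revert hs'; simp only [show (⟨3, by decide⟩ : Fin 4) = 3 from rfl, h3]; norm_num

set_option maxHeartbeats 4000000 in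
/-- The tables leave few possible orders. -/
theorem possible (hn1 : 1 < T.n) (hn9 : T.n % 9 = 1) :
    (T.n ≤ 91 ∧ T.n ≠ 55) ∨ (7 ∣ T.n ∧ ∃ j, T.y j = 5 ∧ T.A j = -1 ∧ T.D j = 2 ∧
      ∀ j', T.y j' = 5 → T.A j' = -1 → T.D j' = 2 → j' = j) := by
  classical
  obtain ⟨i, e, s, hi, hiS, he, hA, hD, hmono⟩ := exists_four T
  have he2 : ∀ k, e k * e k = 1 := fun k => by rcases he k with h | h <;> rw [h] <;> rfl
  have hR : ∀ j ∈ T.R, j ≠ T.o ∧ T.A j = T.D j := fun j hj => by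
    simpa [Table.R] using hj
  have hsplit := fun (f : ι → ℤ) => sum_split T hi hiS f
  have hspq := fun (f : ι → ℚ) => sum_split T hi hiS f
  have hRD : ∑ j ∈ T.R, T.A j * T.A j = ∑ j ∈ T.R, T.D j * T.D j :=
    sum_congr rfl fun j hj => by rw [(hR j hj).2]
  have hRAD : ∑ j ∈ T.R, T.A j * T.D j = ∑ j ∈ T.R, T.D j * T.D j :=
    sum_congr rfl fun j hj => by rw [(hR j hj).2]
  have hAA := T.AA; have hDD := T.DD; have hAD := T.AD
  rw [hsplit] at hAA hDD hAD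
  simp only [T.Ao, T.Do, hRD, hRAD, hA, hD] at hAA hDD hAD
  have hsum : s 0 + s 1 + s 2 + s 3 = -6 := by
    have : 6 * (s 0 + s 1 + s 2 + s 3) = -36 := by
      linear_combination hAA - hDD - (6 * s 0 + 9) * he2 0 - (6 * s 1 + 9) * he2 1 -
        (6 * s 2 + 9) * he2 2 - (6 * s 3 + 9) * he2 3
    omega
  have hsq : ∑ j ∈ T.R, T.D j * T.D j = 17 - (s 0 ^ 2 + s 1 ^ 2 + s 2 ^ 2 + s 3 ^ 2) := by
    linear_combination hDD - s 0 ^ 2 * he2 0 - s 1 ^ 2 * he2 1 - s 2 ^ 2 * he2 2 - s 3 ^ 2 * he2 3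
  have hcases := classify hsum (hmono (show (0 : Fin 4) ≤ 1 by decide)) (hmono (show (1 : Fin 4) ≤ 2 by decide))
    (hmono (show (2 : Fin 4) ≤ 3 by decide))
    (by
      have h : 0 ≤ ∑ j ∈ T.R, T.D j * T.D j := sum_nonneg fun j _ => mul_self_nonneg _
      linarith)
  -- the reciprocals of the signed degrees
  let u : Fin 4 → ℚ := fun k => (e k : ℚ) / (T.y (i k) : ℚ)
  have hy0 : ∀ j, (T.y j : ℚ) ≠ 0 := fun j => Int.cast_ne_zero.mpr (T.ypos j).ne'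
  have he3 : ∀ k, (e k : ℚ) * e k = 1 := fun k => by exact_mod_cast he2 k
  have hAAD := T.hAAD; have hADD := T.hADD
  rw [hspq] at hAAD hADD
  have hRq : ∑ j ∈ T.R, (T.A j : ℚ) * T.A j * T.D j / T.y j = ∑ j ∈ T.R, (T.D j : ℚ) * T.D j * T.D j / T.y j :=
    sum_congr rfl fun j hj => by rw [(hR j hj).2]
  have hRq' : ∑ j ∈ T.R, (T.A j : ℚ) * T.D j * T.D j / T.y j = ∑ j ∈ T.R, (T.D j : ℚ) * T.D j * T.D j / T.y j :=
    sum_congr rfl fun j hj => by rw [(hR j hj).2]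
  have hterm1 : ∀ k, (T.A (i k) : ℚ) * T.A (i k) * T.D (i k) / T.y (i k) =
      ((s k : ℚ) + 3) * ((s k : ℚ) + 3) * s k * u k := fun k => by
    simp only [hA, hD, u]; push_cast
    linear_combination ((s k : ℚ) + 3) * ((s k : ℚ) + 3) * s k * ((e k : ℚ) / T.y (i k)) * he3 k
  have hterm2 : ∀ k, (T.A (i k) : ℚ) * T.D (i k) * T.D (i k) / T.y (i k) =
      ((s k : ℚ) + 3) * s k * s k * u k := fun k => by
    simp only [hA, hD, u]; push_cast
    linear_combination ((s k : ℚ) + 3) * s k * s k * ((e k : ℚ) / T.y (i k)) * he3 k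
  set V : ℚ := ∑ j ∈ T.R, (T.D j : ℚ) * T.D j * T.D j / T.y j with hV
  simp only [hRq, hRq', hterm1, hterm2, T.Ao, T.Do, T.yo, Int.cast_one, mul_one, div_one] at hAAD hADD
  have hVge : -((∑ j ∈ T.R, T.D j * T.D j : ℤ) : ℚ) / 8 ≤ V := by
    rw [hV, Int.cast_sum, ← sum_neg_distrib, sum_div]
    refine sum_le_sum fun j hj => ?_
    have h := T.hnn j
    rw [(hR j hj).2] at h
    have := cube_div_ge (T.ypos j) (show 0 ≤ T.y j + 8 * T.D j by linarith)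
    push_cast
    simp only [sq] at this ⊢
    exact this
  rw [hsq] at hVge
  have hnQ : (1 : ℚ) < T.n := by exact_mod_cast hn1
  have hwmod : ∀ k, (e k * T.y (i k) + 4 * (2 * s k + 3)) % 9 = 0 := fun k => by
    have h := T.hmod (i k)
    rw [hA, hD] at h
    rcases he k with h' | h' <;> rw [h'] at h ⊢ <;> omega
  rcases hcases with ⟨h0, h1, h2, h3⟩ | ⟨h0, h1, h2, h3⟩ | ⟨h0, h1, h2, h3⟩ | ⟨h0, h1, h2, h3⟩ <;>
    simp only [h0, h1, h2, h3] at hAAD hADD hVge <;> norm_num at hAAD hADD hVge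
  · -- `s = (-3, -2, -1, 0)`
    left
    have hu : -(1 / 5 : ℚ) ≤ u 1 := by
      have hw := hwmod 1
      rw [h1] at hw
      have hyp : (0 : ℚ) < T.y (i 1) := by exact_mod_cast T.ypos (i 1)
      rcases he 1 with h | h
      · simp only [u, h, Int.cast_one]; linarith [div_pos (one_pos : (0 : ℚ) < 1) hyp]
      · rw [h] at hw
        have h5 : 5 ≤ T.y (i 1) := by have := T.ypos (i 1); omega
        have h5' : (5 : ℚ) ≤ T.y (i 1) := by exact_mod_cast h5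
        simp only [u, h, Int.cast_neg, Int.cast_one, neg_div]
        rw [neg_le_neg_iff]
        exact one_div_le_one_div_of_le (by norm_num) h5'
    have h40 : T.n ≤ 40 := by
      have : (T.n : ℚ) * (1 - 3 / 8 - 2 / 5) ≤ 9 := by nlinarith
      have : (T.n : ℚ) ≤ 40 := by linarith
      exact_mod_cast this
    omega
  · left
    have h24 : T.n ≤ 24 := by
      have : (T.n : ℚ) * (1 - 5 / 8) ≤ 9 := by nlinarith
      have : (T.n : ℚ) ≤ 24 := by linarith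
      exact_mod_cast this
    omega
  · left
    have h24 : T.n ≤ 24 := by
      have : (T.n : ℚ) * (1 - 5 / 8) ≤ 9 := by nlinarith
      have : (T.n : ℚ) ≤ 24 := by linarith
      exact_mod_cast this
    omega
  · -- `s = (-2, -2, -1, -1)`
    have hu0 : u 0 + u 1 + u 2 + u 3 = 0 := by
      have h : (T.n : ℚ) * (u 0 + u 1 + u 2 + u 3) = 0 := by linarith
      exact (mul_eq_zero.mp h).resolve_left (by positivity)
    refine possible_eight T hn1 hn9 hi hiS he hA hD hwmod h0 h1 h2 h3 (by rw [hsq, h0, h1, h2, h3]; norm_num)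
      u (fun k => rfl) hu0 hV ?_
    have : (T.n : ℚ) * (u 0 + u 1 + u 2 + u 3) = 0 := by rw [hu0, mul_zero]
    linarith

end CfsgLib.DihedralNine
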