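import Mathlib.Tactic.Linarith
import Mathlib.Tactic.FieldSimp
import Mathlib.Tactic.IntervalCases
import Mathlib.Tactic.Ring
import Mathlib.Tactic.Positivity
import Mathlib.Tactic.NormNum
import Mathlib.Data.Rat.Defs
import Mathlib.Algebra.Order.Ring.Rat

/-!
# The arithmetic at the heart of the dihedral automizer case

The unknowns are the signed degrees of the characters which do not vanish on both classes of elements
of order three; `n` is the number of Sylow 3-subgroups.
-/

set_option autoImplicit false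

namespace CfsgLib.DihedralNine

/-- The sum which is equal to `9 / n`. -/
def tot (x r z : ℤ) : ℚ :=
  1 + 2 / (x : ℚ) + 1 / (r : ℚ) + 8 / (z : ℚ) + 2 / ((1 + x + z : ℤ) : ℚ) + 2 / ((x + r + z : ℤ) : ℚ)

theorem div_ge_of_neg {k v : ℤ} {c : ℚ} (hc : 0 ≤ c) (hk : k < 0) (h : v ≤ k ∨ 0 < v) :
    c / (k : ℚ) ≤ c / (v : ℚ) := by
  have hk' : (k : ℚ) < 0 := by exact_mod_cast hk
  rcases h with h | h
  · have hv : (v : ℚ) ≤ k := by exact_mod_cast h
    have h1 := one_div_le_one_div_of_neg_of_le hk' hv
    simpa [div_eq_mul_inv] using mul_le_mul_of_nonneg_left h1 hc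
  · exact le_trans (div_nonpos_of_nonneg_of_nonpos hc hk'.le) (div_nonneg hc (by exact_mod_cast h.le))

theorem div_ge_of_pos {k v : ℤ} {c : ℚ} (hc : 0 ≤ c) (hv : 0 < v) (h : v ≤ k) :
    c / (k : ℚ) ≤ c / (v : ℚ) :=
  div_le_div_of_nonneg_left hc (by exact_mod_cast hv) (by exact_mod_cast h)

theorem div_nonneg_of_pos {v : ℤ} {c : ℚ} (hc : 0 ≤ c) (hv : 0 < v) : 0 ≤ c / (v : ℚ) :=
  div_nonneg hc (by exact_mod_cast hv.le)

theorem large (n x r z : ℤ) (hn : 100 ≤ n) (hnm : n % 9 = 1) (hx9 : x % 9 = 1) (hr9 : r % 9 = 1)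
    (hz9 : z % 9 = 2) (hx : x ≤ -8 ∨ 10 ≤ x) (hr : r ≤ -8 ∨ 10 ≤ r) (hz : 2 ≤ z ∨ z ≤ -16)
    (hS : (n : ℚ) * tot x r z = 9)
    (hQ : 1 + 2 * x ^ 2 + r ^ 2 + z ^ 2 + 2 * ((1 + x + z) ^ 2 + (x + r + z) ^ 2) ≤ 72 * n) :
    (n = 280 ∨ n = 2800) ∧ (1 + x + z = -5 ∨ x + r + z = -5) := by
  have hn' : (100 : ℚ) ≤ n := by exact_mod_cast hn
  have hSle : tot x r z ≤ 9 / 100 := by nlinarith
  have hSpos : 0 < tot x r z := by nlinarith
  have hQ' : (tot x r z) * (1 + 2 * (x : ℚ) ^ 2 + (r : ℚ) ^ 2 + (z : ℚ) ^ 2 +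
      2 * ((1 + x + z : ℤ) : ℚ) ^ 2) ≤ 648 := by
    have h : (1 + 2 * (x : ℚ) ^ 2 + (r : ℚ) ^ 2 + (z : ℚ) ^ 2 +
        2 * ((1 + x + z : ℤ) : ℚ) ^ 2) ≤ 72 * n := by
      have : (1 + 2 * x ^ 2 + r ^ 2 + z ^ 2 + 2 * (1 + x + z) ^ 2) ≤ 72 * n := by
        nlinarith [sq_nonneg (x + r + z)]
      exact_mod_cast this
    calc _ ≤ tot x r z * (72 * (n : ℚ)) := mul_le_mul_of_nonneg_left h hSpos.le
      _ = _ := by rw [show tot x r z * (72 * (n : ℚ)) = 72 * ((n : ℚ) * tot x r z) by ring, hS]; norm_num
  unfold tot at hS hSle hSpos hQ'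
  set w₁ := 1 + x + z with hw₁
  set w₂ := x + r + z with hw₂
  have hw₁b : w₁ ≤ -5 ∨ 4 ≤ w₁ := by omega
  have hw₂b : w₂ ≤ -5 ∨ 4 ≤ w₂ := by omega
  have ex : (-1 / 4 : ℚ) ≤ 2 / (x : ℚ) := by
    have h := div_ge_of_neg (k := -8) (v := x) (c := 2) (by norm_num) (by norm_num) (by omega)
    norm_num at h ⊢; linarith
  have er : (-1 / 8 : ℚ) ≤ 1 / (r : ℚ) := by
    have h := div_ge_of_neg (k := -8) (v := r) (c := 1) (by norm_num) (by norm_num) (by omega)
    norm_num at h ⊢; linarith
  have er' : (-1 / 8 : ℚ) ≤ (r : ℚ)⁻¹ := by rwa [one_div] at er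
  have hrinv : 0 < r → (0 : ℚ) ≤ (r : ℚ)⁻¹ := fun h => inv_nonneg.mpr (by exact_mod_cast h.le)
  have e5 : ∀ w : ℤ, (w ≤ -5 ∨ 4 ≤ w) → (-2 / 5 : ℚ) ≤ 2 / (w : ℚ) := fun w hw => by
    have h := div_ge_of_neg (k := -5) (v := w) (c := 2) (by norm_num) (by norm_num) (by omega)
    norm_num at h ⊢; linarith
  have e14 : ∀ w : ℤ, (w ≤ -5 ∨ 4 ≤ w) → w % 9 = 4 → w ≠ -5 → (-1 / 7 : ℚ) ≤ 2 / (w : ℚ) := fun w hw h9 h5 => by
    have h := div_ge_of_neg (k := -14) (v := w) (c := 2) (by norm_num) (by norm_num) (by omega)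
    norm_num at h ⊢; linarith
  rcases hz with hz | hz
  · -- `z` positive
    exfalso
    have hz0 : (0 : ℚ) < z := by exact_mod_cast (show 0 < z by omega)
    have hsum : (-2 / 5 - 1 / 7 : ℚ) ≤ 2 / (w₁ : ℚ) + 2 / (w₂ : ℚ) := by
      rcases eq_or_ne w₁ (-5) with h | h
      · have := e5 w₁ hw₁b; have := e14 w₂ hw₂b (by omega) (by omega); linarith
      · have := e14 w₁ hw₁b (by omega) h; have := e5 w₂ hw₂b; linarith
    rcases le_or_gt z 55 with h | h
    · have := div_ge_of_pos (k := 55) (v := z) (c := 8) (by norm_num) (by omega) h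
      norm_num at this; linarith
    · have hz56 : (56 : ℚ) ≤ z := by exact_mod_cast h
      have h8 : (0.08 : ℚ) + 8 / (z : ℚ) ≤ 1 + 2 / (x : ℚ) + 1 / (r : ℚ) + 8 / (z : ℚ) + 2 / (w₁ : ℚ) + 2 / (w₂ : ℚ) := by
        linarith
      have hzz : (z : ℚ) ^ 2 * (0.08 + 8 / z) = 0.08 * (z : ℚ) ^ 2 + 8 * z := by field_simp; try ring
      have hle : (z : ℚ) ^ 2 ≤ 1 + 2 * (x : ℚ) ^ 2 + (r : ℚ) ^ 2 + (z : ℚ) ^ 2 + 2 * (w₁ : ℚ) ^ 2 := by
        linarith [sq_nonneg (x : ℚ), sq_nonneg (r : ℚ), sq_nonneg (w₁ : ℚ)]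
      have hmul := mul_le_mul h8 hle (sq_nonneg _) hSpos.le
      nlinarith
  have hzq : (-1 / 2 : ℚ) ≤ 8 / (z : ℚ) := by
    have h := div_ge_of_neg (k := -16) (v := z) (c := 8) (by norm_num) (by norm_num) (by omega)
    norm_num at h ⊢; linarith
  rcases hx with hx | hx
  · -- `x` negative
    have hw1 : w₁ ≤ -23 := by omega
    by_cases h5 : w₂ = -5
    · -- the second degree is five
      have e5' : (2 : ℚ) / (w₂ : ℚ) = -2 / 5 := by rw [h5]; norm_num
      have hr19 : 19 ≤ r := by omega
      have hr0 : (0 : ℚ) ≤ 1 / (r : ℚ) := div_nonneg_of_pos (by norm_num) (by omega)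
      rcases (show z = -16 ∨ z ≤ -25 by omega) with hz | hz
      · rcases le_or_gt x (-53) with hx53 | hx53
        · exfalso
          set m : ℚ := -(x : ℚ) with hm
          have hm53 : 53 ≤ m := by
            have : (x : ℚ) ≤ -53 := by exact_mod_cast hx53
            linarith
          have hm0 : 0 < m := by linarith
          have q1 : (2 : ℚ) / (x : ℚ) = -(2 / m) := by rw [hm, div_neg, neg_neg]
          have q2 : -(2 / m) ≤ (2 : ℚ) / (w₁ : ℚ) := by
            rw [← q1]
            exact div_ge_of_neg (by norm_num) (by omega) (by omega)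
          have q3 : (4 : ℚ) / (5 * m) ≤ 1 / (r : ℚ) := by
            have hrm : (r : ℚ) = m + 11 := by
              have : r = -x + 11 := by omega
              rw [this, hm]; push_cast; ring
            rw [hrm, div_le_div_iff₀ (by linarith) (by linarith)]
            linarith
          have q4 : (1 / 10 : ℚ) - 16 / (5 * m) ≤
              1 + 2 / (x : ℚ) + 1 / (r : ℚ) + 8 / (z : ℚ) + 2 / (w₁ : ℚ) + 2 / (w₂ : ℚ) := by
            have : (16 : ℚ) / (5 * m) = 2 / m + 2 / m - 4 / (5 * m) := by field_simp; norm_num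
            rw [e5', this, q1, hz]
            norm_num
            norm_num at q2 q3
            linarith
          have hle : 5 * m ^ 2 + 82 * m ≤
              1 + 2 * (x : ℚ) ^ 2 + (r : ℚ) ^ 2 + (z : ℚ) ^ 2 + 2 * (w₁ : ℚ) ^ 2 := by
            have h1 : (x : ℚ) = -m := by rw [hm]; ring
            have h2 : (r : ℚ) = m + 11 := by
              have : r = -x + 11 := by omega
              rw [this, hm]; push_cast; ring
            have h3 : (w₁ : ℚ) = -m - 15 := by rw [hw₁, hz]; push_cast; linarith
            rw [h1, h2, h3, hz]; push_cast; nlinarith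
          have hmul := mul_le_mul q4 hle (by positivity) hSpos.le
          have hval : (1 / 10 - 16 / (5 * m)) * (5 * m ^ 2 + 82 * m) = m ^ 2 / 2 - 78 / 10 * m - 1312 / 5 := by
            field_simp; ring
          nlinarith
        · exfalso
          obtain rfl : r = 11 - x := by omega
          subst hz
          rcases (show x = -8 ∨ x = -17 ∨ x = -26 ∨ x = -35 ∨ x = -44 by omega) with rfl | rfl | rfl | rfl | rfl <;>
            norm_num [hw₁, hw₂] at hS hSpos
          all_goals first
            | linarith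
            | (have h' := hS; field_simp at h'; norm_cast at h'; omega)
      · have hzq25 : (-8 / 25 : ℚ) ≤ 8 / (z : ℚ) := by
          have h := div_ge_of_neg (k := -25) (v := z) (c := 8) (by norm_num) (by norm_num) (by omega)
          norm_num at h ⊢; linarith
        rcases (show x = -8 ∨ x ≤ -17 by omega) with rfl | hx17
        · rcases (show z = -25 ∨ z = -34 ∨ z ≤ -43 by omega) with rfl | rfl | hz43
          · obtain rfl : r = 28 := by omega
            refine ⟨Or.inr ?_, Or.inr h5⟩
            norm_num [hw₁, hw₂] at hS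
            exact_mod_cast (show (n : ℚ) = 2800 by linarith)
          · exfalso
            obtain rfl : r = 37 := by omega
            norm_num [hw₁, hw₂] at hSle
          · exfalso
            have h1 := div_ge_of_neg (k := -43) (v := z) (c := 8) (by norm_num) (by norm_num) (by omega)
            have h2 := div_ge_of_neg (k := -50) (v := w₁) (c := 2) (by norm_num) (by norm_num) (by omega)
            norm_num at h1 h2 ex hSle
            rw [e5'] at hSle
            have := hrinv (by omega)
            linarith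
        · exfalso
          have h1 := div_ge_of_neg (k := -17) (v := x) (c := 2) (by norm_num) (by norm_num) (by omega)
          have h2 := div_ge_of_neg (k := -41) (v := w₁) (c := 2) (by norm_num) (by norm_num) (by omega)
          rw [e5'] at hSle
          norm_num at h1 h2
          linarith
    · exfalso
      have h14 := e14 w₂ hw₂b (by omega) h5
      rcases (show z = -16 ∨ z ≤ -25 by omega) with rfl | hz
      · rcases (show x = -8 ∨ x ≤ -17 by omega) with rfl | hx17
        · rcases (show r = -8 ∨ r = -17 ∨ r = -26 ∨ r ≤ -35 ∨ r = 10 ∨ 28 ≤ r by omega) with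
            rfl | rfl | rfl | h | rfl | h
          · norm_num [hw₁, hw₂] at hSpos
          · norm_num [hw₁, hw₂] at hS
            have h' := hS; field_simp at h'; norm_cast at h'; omega
          · norm_num [hw₁, hw₂] at hS
            have h' := hS; field_simp at h'; norm_cast at h'; omega
          · have h1 := div_ge_of_neg (k := -35) (v := r) (c := 1) (by norm_num) (by norm_num) (by omega)
            have h2 := div_ge_of_neg (k := -59) (v := w₂) (c := 2) (by norm_num) (by norm_num) (by omega)
            norm_num [hw₁] at h1 h2 hSle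
            linarith
          · norm_num [hw₁, hw₂] at hSle
          · have h1 : (0 : ℚ) ≤ 1 / (r : ℚ) := div_nonneg_of_pos (by norm_num) (by omega)
            have h2 : (0 : ℚ) ≤ 2 / (w₂ : ℚ) := div_nonneg_of_pos (by norm_num) (by omega)
            norm_num [hw₁] at h2 hSle
            have := hrinv (by omega)
            linarith
        · have h1 := div_ge_of_neg (k := -17) (v := x) (c := 2) (by norm_num) (by norm_num) (by omega)
          have h2 := div_ge_of_neg (k := -32) (v := w₁) (c := 2) (by norm_num) (by norm_num) (by omega)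
          norm_num at h1 h2 hSle
          rcases hr with hr | hr
          · have h3 := div_ge_of_neg (k := -41) (v := w₂) (c := 2) (by norm_num) (by norm_num) (by omega)
            norm_num at h3 er
            linarith
          · have h3 := hrinv (by omega)
            linarith
      · have h1 := div_ge_of_neg (k := -25) (v := z) (c := 8) (by norm_num) (by norm_num) (by omega)
        have h2 := div_ge_of_neg (k := -32) (v := w₁) (c := 2) (by norm_num) (by norm_num) (by omega)
        norm_num at h1 h2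
        rcases hr with hr | hr
        · have h3 := div_ge_of_neg (k := -41) (v := w₂) (c := 2) (by norm_num) (by norm_num) (by omega)
          norm_num at h3
          linarith
        · have h3 : (0 : ℚ) ≤ 1 / (r : ℚ) := div_nonneg_of_pos (by norm_num) (by omega)
          linarith
  · -- `x` positive
    have hx0 : (0 : ℚ) < x := by exact_mod_cast (show 0 < x by omega)
    have hxp : (0 : ℚ) ≤ 2 / (x : ℚ) := div_nonneg_of_pos (by norm_num) (by omega)
    by_cases h1 : w₁ = -5
    · have e5' : (2 : ℚ) / (w₁ : ℚ) = -2 / 5 := by rw [h1]; norm_num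
      have h14 := e14 w₂ hw₂b (by omega) (by omega)
      rcases (show z = -16 ∨ z ≤ -25 by omega) with rfl | hz
      · obtain rfl : x = 10 := by omega
        rcases (show r = -8 ∨ r ≤ -17 ∨ 10 ≤ r by omega) with rfl | h | h
        · refine ⟨Or.inl ?_, Or.inl h1⟩
          norm_num [hw₁, hw₂] at hS
          exact_mod_cast (show (n : ℚ) = 280 by linarith)
        · exfalso
          have h2 := div_ge_of_neg (k := -17) (v := r) (c := 1) (by norm_num) (by norm_num) (by omega)
          have h3 := div_ge_of_neg (k := -23) (v := w₂) (c := 2) (by norm_num) (by norm_num) (by omega)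
          norm_num [hw₁] at h2 h3 hSle
          linarith
        · exfalso
          have h2 := hrinv (by omega)
          have h3 : (0 : ℚ) ≤ 2 / (w₂ : ℚ) := div_nonneg_of_pos (by norm_num) (by omega)
          norm_num [hw₁] at h3 hSle
          linarith
      · exfalso
        have key : (-22 / 100 : ℚ) ≤ 8 / (z : ℚ) + 2 / (x : ℚ) := by
          set m : ℚ := -(z : ℚ) with hm
          have hm25 : 25 ≤ m := by
            have : (z : ℚ) ≤ -25 := by exact_mod_cast hz
            linarith
          have q1 : (x : ℚ) = m - 6 := by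
            have : x = -z - 6 := by omega
            rw [this, hm]; push_cast; ring
          rw [q1, show (z : ℚ) = -m by rw [hm]; ring, div_neg, neg_add_eq_sub,
            div_sub_div _ _ (by linarith) (by linarith), div_le_div_iff₀ (by norm_num) (by nlinarith)]
          nlinarith
        rw [e5'] at hSle
        linarith
    · exfalso
      have hw14 := e14 w₁ hw₁b (by omega) h1
      by_cases h2 : w₂ = -5
      · have e5' : (2 : ℚ) / (w₂ : ℚ) = -2 / 5 := by rw [h2]; norm_num
        rw [e5'] at hSle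
        rcases hr with hr | hr
        · rcases (show r = -8 ∨ r ≤ -17 by omega) with rfl | hr17
          · have hw4 : w₁ = 4 := by omega
            rw [hw4] at hSle
            norm_num at hSle
            linarith
          · have hw : w₁ = -r - 4 := by omega
            have key : (0 : ℚ) ≤ 1 / (r : ℚ) + 2 / (w₁ : ℚ) := by
              set m : ℚ := -(r : ℚ) with hm
              have hm17 : 17 ≤ m := by
                have : (r : ℚ) ≤ -17 := by exact_mod_cast hr17
                linarith
              rw [hw, show (r : ℚ) = -m by rw [hm]; ring,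
                show ((-r - 4 : ℤ) : ℚ) = m - 4 by rw [hm]; push_cast; ring, div_neg, neg_add_eq_sub,
                sub_nonneg, div_le_div_iff₀ (by linarith) (by linarith)]
              linarith
            linarith
        · have hz25 : z ≤ -25 := by omega
          have h3 := div_ge_of_neg (k := -25) (v := z) (c := 8) (by norm_num) (by norm_num) (by omega)
          have h4 : (0 : ℚ) ≤ 1 / (r : ℚ) := div_nonneg_of_pos (by norm_num) (by omega)
          norm_num at h3
          linarith
      · have hw24 := e14 w₂ hw₂b (by omega) h2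
        rcases le_or_gt x 1000 with hx1 | hx1
        · have h3 := div_ge_of_pos (k := 1000) (v := x) (c := 2) (by norm_num) (by omega) hx1
          norm_num at h3
          linarith
        · have hx1' : (1000 : ℚ) ≤ x := by exact_mod_cast hx1.le
          have hlow : (8 / 100 : ℚ) ≤ 1 + 2 / (x : ℚ) + 1 / (r : ℚ) + 8 / (z : ℚ) + 2 / (w₁ : ℚ) + 2 / (w₂ : ℚ) := by
            linarith
          have hle : (x : ℚ) ^ 2 ≤ 1 + 2 * (x : ℚ) ^ 2 + (r : ℚ) ^ 2 + (z : ℚ) ^ 2 + 2 * (w₁ : ℚ) ^ 2 := by
            linarith [sq_nonneg (x : ℚ), sq_nonneg (r : ℚ), sq_nonneg (z : ℚ), sq_nonneg (w₁ : ℚ)]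
          have hmul := mul_le_mul hlow hle (sq_nonneg _) hSpos.le
          nlinarith

/-- The cleared form of the equation for `n = 55`. -/
def eq55 (x r z : ℤ) : Bool :=
  let a := 1 + x + z
  let b := x + r + z
  55 * (x * r * z * a * b + 2 * r * z * a * b + x * z * a * b + 8 * x * r * a * b + 2 * x * r * z * b +
    2 * x * r * z * a) == 9 * (x * r * z * a * b)

theorem no55 : ∀ i : Fin 10, ∀ j : Fin 14, ∀ k : Fin 14,
    eq55 (9 * (i.val : ℤ) - 44) (9 * (j.val : ℤ) - 62) (9 * (k.val : ℤ) - 61) = false ∨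
      9 * (i.val : ℤ) - 44 = 1 ∨ 9 * (j.val : ℤ) - 62 = 1 := by
  decide +kernel

theorem ne55 (x r z : ℤ) (hx9 : x % 9 = 1) (hr9 : r % 9 = 1) (hz9 : z % 9 = 2) (hx : x ≠ 1) (hr : r ≠ 1)
    (hS : (55 : ℚ) * tot x r z = 9)
    (hQ : 1 + 2 * x ^ 2 + r ^ 2 + z ^ 2 + 2 * ((1 + x + z) ^ 2 + (x + r + z) ^ 2) ≤ 3960) : False := by
  have hxb : -44 ≤ x ∧ x ≤ 44 := by
    constructor <;> nlinarith [sq_nonneg r, sq_nonneg z, sq_nonneg (1 + x + z), sq_nonneg (x + r + z)]
  have hrb : -62 ≤ r ∧ r ≤ 62 := by
    constructor <;> nlinarith [sq_nonneg x, sq_nonneg z, sq_nonneg (1 + x + z), sq_nonneg (x + r + z)]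
  have hzb : -62 ≤ z ∧ z ≤ 62 := by
    constructor <;> nlinarith [sq_nonneg x, sq_nonneg r, sq_nonneg (1 + x + z), sq_nonneg (x + r + z)]
  have hi : ((x + 44) / 9).toNat < 10 := by omega
  have hj : ((r + 62) / 9).toNat < 14 := by omega
  have hk : ((z + 61) / 9).toNat < 14 := by omega
  have h := no55 ⟨_, hi⟩ ⟨_, hj⟩ ⟨_, hk⟩
  simp only at h
  rw [show 9 * (((x + 44) / 9).toNat : ℤ) - 44 = x by omega, show 9 * (((r + 62) / 9).toNat : ℤ) - 62 = r by omega,
    show 9 * (((z + 61) / 9).toNat : ℤ) - 61 = z by omega] at h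
  rcases h with h | h | h
  · have e : ∀ v : ℤ, v ≠ 0 → (v : ℚ) ≠ 0 := fun v hv => Int.cast_ne_zero.mpr hv
    have e1 := e x (by omega)
    have e2 := e r (by omega)
    have e3 := e z (by omega)
    have e4 := e (1 + x + z) (by omega)
    have e5 := e (x + r + z) (by omega)
    have hT : tot x r z * ((x : ℚ) * r * z * ((1 + x + z : ℤ) : ℚ) * ((x + r + z : ℤ) : ℚ)) =
        ((x * r * z * (1 + x + z) * (x + r + z) + 2 * r * z * (1 + x + z) * (x + r + z) +
          x * z * (1 + x + z) * (x + r + z) + 8 * x * r * (1 + x + z) * (x + r + z) +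
          2 * x * r * z * (x + r + z) + 2 * x * r * z * (1 + x + z) : ℤ) : ℚ) := by
      unfold tot
      push_cast at e4 e5 ⊢
      field_simp
    simp only [eq55, beq_eq_false_iff_ne] at h
    refine h ?_
    apply Int.cast_injective (α := ℚ)
    rw [Int.cast_mul, ← hT, ← mul_assoc, show ((55 : ℤ) : ℚ) = 55 by norm_num, hS]
    push_cast
    ring
  · exact hx h
  · exact hr h

end CfsgLib.DihedralNine
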