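import Cfsg.Agent.S3805
import Mathlib.GroupTheory.SpecificGroups.Dihedral

/-!
# The 3-local structure: a self-centralizing elementary abelian group of order nine with dihedral automizer
-/

set_option autoImplicit false

namespace CfsgLib.DihedralNine

open Subgroup
open Cfsg.Agent.S3805 (pw)

/-- Both exponent vectors are non-zero and of the same kind, axial or diagonal. -/
abbrev Ty (p q : ZMod 3 × ZMod 3) : Prop :=
  p ≠ 0 ∧ q ≠ 0 ∧ ((p.1 = 0 ∨ p.2 = 0) ↔ (q.1 = 0 ∨ q.2 = 0))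

/-- The quarter turn of exponent vectors. -/
abbrev rot (p : ZMod 3 × ZMod 3) : ZMod 3 × ZMod 3 := (2 * p.2, p.1)

theorem exists_rot : ∀ p q : ZMod 3 × ZMod 3, Ty p q → ∃ i : Fin 4, rot^[i.val] p = q := by decide

theorem ty_rot : ∀ p : ZMod 3 × ZMod 3, p ≠ 0 → Ty p (rot p) := by decide

theorem rot_flip : ∀ p : ZMod 3 × ZMod 3, rot (p.1, 2 * p.2) = (p.2, p.1) := by decide

theorem ty_flip : ∀ p : ZMod 3 × ZMod 3, p ≠ 0 → Ty p (p.1, 2 * p.2) := by decide

/-- What the character computation needs to know about the group. -/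
structure Local (G : Type*) [Group G] [Fintype G] (n : ℕ) where
  card_eq : Nat.card G = 72 * n
  mod_nine : n % 9 = 1
  a : G
  d : G
  g : G
  h : G
  ord_a : orderOf a = 3
  ord_d : orderOf d = 3
  g6 : g ^ 6 = 1
  g4 : g ^ 4 = a
  g3 : g ^ 3 ≠ 1
  h6 : h ^ 6 = 1
  h4 : h ^ 4 = d
  h3 : h ^ 3 ≠ 1
  real_a : IsConj a a⁻¹
  real_d : IsConj d d⁻¹
  real_g : IsConj g g⁻¹
  real_h : IsConj h h⁻¹
  cent_a : Nat.card (centralizer ({a} : Set G)) = 18
  cent_d : Nat.card (centralizer ({d} : Set G)) = 18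
  cent_g : Nat.card (centralizer ({g} : Set G)) = 6
  cent_h : Nat.card (centralizer ({h} : Set G)) = 6
  not_conj : ¬ IsConj a d
  pairs_a : (CfsgLib.ClassCount.pairs a a {d}).card = 2
  pairs_d : (CfsgLib.ClassCount.pairs d d {a}).card = 2
  sum_M : ∀ χ : Cfsg.IrrCharacter G, ∃ m : ℕ,
    (χ : G → ℂ) 1 + 4 * (χ : G → ℂ) a + 4 * (χ : G → ℂ) d = 9 * (m : ℂ)

/-- A group of order nine normalized by `x` of prime order at least five is centralized by it. -/
theorem centralizes {G : Type*} [Group G] [Finite G] {M : Subgroup G} (hM : Nat.card M = 9) {x : G} {q : ℕ}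
    [hq : Fact q.Prime] (hq5 : 5 ≤ q) (hx : orderOf x = q) (hxM : x ∈ normalizer (M : Set G)) :
    ∀ t ∈ M, t * x = x * t := by
  classical
  have hle : zpowers x ≤ normalizer (M : Set G) := zpowers_le.mpr hxM
  letI : MulAction (zpowers x) M :=
    { smul := fun k t => ⟨k * t * (k : G)⁻¹, (mem_normalizer_iff.mp (hle k.2) t).mp t.2⟩
      one_smul := fun t => Subtype.ext (show (1 : G) * t * (1 : G)⁻¹ = t by group)
      mul_smul := fun k l t => Subtype.ext
        (show (k * l : G) * t * (k * l : G)⁻¹ = k * (l * t * (l : G)⁻¹) * (k : G)⁻¹ by group) }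
  have hP : IsPGroup q (zpowers x) := IsPGroup.of_card (n := 1) (by rw [Nat.card_zpowers, hx, pow_one])
  have hmod := hP.card_modEq_card_fixedPoints M
  set F : Subgroup G := M ⊓ centralizer ({x} : Set G) with hF
  have hfix : Nat.card (MulAction.fixedPoints (zpowers x) M) = Nat.card F := by
    refine Nat.card_congr
      { toFun := fun t => ⟨(t.1 : G), mem_inf.mpr ⟨t.1.2, mem_centralizer_singleton_iff.mpr ?_⟩⟩
        invFun := fun t => ⟨⟨(t : G), (mem_inf.mp t.2).1⟩, fun k => Subtype.ext ?_⟩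
        left_inv := fun t => rfl
        right_inv := fun t => rfl }
    · have h : x * (t.1 : G) * x⁻¹ = t.1 := congrArg Subtype.val (t.2 ⟨x, mem_zpowers x⟩)
      exact (mul_inv_eq_iff_eq_mul.mp h).symm
    · show (k : G) * t * (k : G)⁻¹ = t
      obtain ⟨i, hi⟩ := mem_zpowers_iff.mp k.2
      have h : Commute (t : G) x := mem_centralizer_singleton_iff.mp (mem_inf.mp t.2).2
      rw [← hi, ← (h.zpow_right i).eq, mul_inv_cancel_right]
  rw [hM, hfix] at hmod
  have hdvd : Nat.card F ∣ 3 ^ 2 := by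
    have := card_dvd_of_le (inf_le_left : F ≤ M)
    rwa [hM] at this
  obtain ⟨k, hk, hk'⟩ := (Nat.dvd_prime_pow Nat.prime_three).mp hdvd
  have hF9 : Nat.card F = 9 := by
    have hpos := hq.out.pos
    rw [Nat.ModEq] at hmod
    interval_cases k
    · rw [hk'] at hmod ⊢
      have h1 : (3 ^ 0 : ℕ) % q = 1 := Nat.mod_eq_of_lt (by omega)
      rw [h1] at hmod
      have : q ∣ 8 := (Nat.modEq_iff_dvd' (by norm_num)).mp (show 1 ≡ 9 [MOD q] by
        rw [Nat.ModEq, hmod, Nat.mod_eq_of_lt (show 1 < q by omega)])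
      have hle' := Nat.le_of_dvd (by norm_num) this
      interval_cases q <;> first | (norm_num at this; done) | exact absurd hq.out (by norm_num)
    · rw [hk'] at hmod ⊢
      have h1 : (3 ^ 1 : ℕ) % q = 3 := Nat.mod_eq_of_lt (by omega)
      rw [h1] at hmod
      have : q ∣ 6 := (Nat.modEq_iff_dvd' (by norm_num)).mp (show 3 ≡ 9 [MOD q] by
        rw [Nat.ModEq, hmod, Nat.mod_eq_of_lt (show 3 < q by omega)])
      have hle' := Nat.le_of_dvd (by norm_num) this
      interval_cases q <;> first | (norm_num at this; done) | exact absurd hq.out (by norm_num)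
    · rw [hk']; norm_num
  intro t ht
  have e : F = M := eq_of_le_of_card_ge inf_le_left (by rw [hF9, hM])
  rw [← e] at ht
  exact mem_centralizer_singleton_iff.mp (mem_inf.mp ht).2

section

variable {G : Type*} [Group G] [Finite G] (M : Sylow 3 G) {N : Subgroup G}

/-- The normalizer has order `72`. -/
theorem card_normalizer (hM9 : Nat.card (M : Subgroup G) = 9)
    (hCM : centralizer ((M : Subgroup G) : Set G) = (M : Subgroup G))
    (hN : N = normalizer ((M : Subgroup G) : Set G)) (S : Sylow 2 N) (hS : Nat.card S = 8) :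
    Nat.card N = 72 := by
  have h2 : Fact (Nat.Prime 2) := ⟨Nat.prime_two⟩
  have hMN : (M : Subgroup G) ≤ N := hN ▸ le_normalizer
  have h9 : 9 ∣ Nat.card N := hM9 ▸ card_dvd_of_le hMN
  have h8 : 8 ∣ Nat.card N := hS ▸ card_subgroup_dvd_card _
  obtain ⟨k, hk⟩ : 72 ∣ Nat.card N := Nat.Coprime.mul_dvd_of_dvd_of_dvd (by norm_num : Nat.Coprime 8 9) h8 h9
  by_contra hne
  have hk1 : k ≠ 1 := fun e => hne (by rw [hk, e])
  obtain ⟨q, hq, hqk⟩ := Nat.exists_prime_and_dvd hk1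
  have hqN : q ∣ Nat.card N := hk ▸ Dvd.dvd.mul_left hqk _
  have hq2 : q ≠ 2 := by
    rintro rfl
    have h16 : 2 ^ 4 ∣ Nat.card N := by
      rw [hk]
      obtain ⟨l, rfl⟩ := hqk
      exact ⟨9 * l, by ring⟩
    have h := S.card_eq_multiplicity
    rw [hS] at h
    have h4 := (Nat.Prime.pow_dvd_iff_le_factorization Nat.prime_two Nat.card_pos.ne').mp h16
    have : 2 ^ 4 ≤ 2 ^ (Nat.card N).factorization 2 := Nat.pow_le_pow_right (by norm_num) h4
    omega
  have hq3 : q ≠ 3 := by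
    rintro rfl
    have h27 : 3 ^ 3 ∣ Nat.card G := by
      refine dvd_trans ?_ (card_subgroup_dvd_card N)
      rw [hk]
      obtain ⟨l, rfl⟩ := hqk
      exact ⟨8 * l, by ring⟩
    have h := M.card_eq_multiplicity
    rw [hM9] at h
    have h4 := (Nat.Prime.pow_dvd_iff_le_factorization Nat.prime_three Nat.card_pos.ne').mp h27
    have : 3 ^ 3 ≤ 3 ^ (Nat.card G).factorization 3 := Nat.pow_le_pow_right (by norm_num) h4
    omega
  have hq4 : q ≠ 4 := fun e => absurd (e ▸ hq) (by norm_num)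
  have hq5 : 5 ≤ q := by have := hq.two_le; omega
  have := Fact.mk hq
  obtain ⟨x, hx⟩ := exists_prime_orderOf_dvd_card' q hqN
  have hxG : orderOf (x : G) = q := (orderOf_coe x).trans hx
  have hxM : (x : G) ∈ (M : Subgroup G) := by
    rw [← hCM, mem_centralizer_iff]
    exact fun t ht => centralizes hM9 hq5 hxG (hN ▸ x.2) t ht
  have h := Subgroup.orderOf_dvd_natCard _ hxM
  rw [hxG, hM9] at h
  have h3' : q ∣ 3 := hq.dvd_of_dvd_pow (show q ∣ 3 ^ 2 from h)
  exact hq3 ((Nat.prime_dvd_prime_iff_eq hq Nat.prime_three).mp h3')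

/-- A basis adapted to the dihedral automizer. -/
theorem exists_basis (hMc : IsMulCommutative (M : Subgroup G)) (hM9 : Nat.card (M : Subgroup G) = 9)
    (hexp : ∀ t ∈ (M : Subgroup G), t ^ 3 = 1)
    (hCM : centralizer ((M : Subgroup G) : Set G) = (M : Subgroup G))
    (hN : N = normalizer ((M : Subgroup G) : Set G)) (S : Sylow 2 N) (e : S ≃* DihedralGroup 4) :
    ∃ a b s r : G, (∀ x, x ∈ (M : Subgroup G) ↔ ∃ p, pw a b p = x) ∧ Function.Injective (pw a b) ∧
      (∀ p q, pw a b (p + q) = pw a b p * pw a b q) ∧ s ∈ N ∧ r ∈ N ∧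
      (∀ p, s * pw a b p * s⁻¹ = pw a b (p.1, 2 * p.2)) ∧ (∀ p, r * pw a b p * r⁻¹ = pw a b (rot p)) ∧
      s * s = 1 ∧ (r * s) * (r * s) = 1 ∧ Commute (r * r) s ∧
      ∀ m ∈ N, ∀ p, p ≠ 0 → ∃ q, Ty p q ∧ m * pw a b p * m⁻¹ = pw a b q := by
  classical
  let f : DihedralGroup 4 →* G := N.subtype.comp ((S : Subgroup N).subtype.comp e.symm.toMonoidHom)
  have hfinj : Function.Injective f := fun x y h => e.symm.injective (Subtype.ext (Subtype.ext h))
  have hfN : ∀ x, f x ∈ N := fun x => ((e.symm x : S) : N).2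
  have hMN : (M : Subgroup G) ≤ N := hN ▸ le_normalizer
  have hNmem : ∀ m ∈ N, ∀ t ∈ (M : Subgroup G), m * t * m⁻¹ ∈ (M : Subgroup G) := fun m hm t ht =>
    (mem_normalizer_iff.mp (hN ▸ hm) t).mp ht
  have hMcomm : ∀ x ∈ (M : Subgroup G), ∀ y ∈ (M : Subgroup G), x * y = y * x := fun x hx y hy =>
    congrArg Subtype.val (hMc.is_comm.comm ⟨x, hx⟩ ⟨y, hy⟩)
  have h8 : ∀ x : DihedralGroup 4, x ^ 8 = 1 := by decide
  have hone : ∀ x, f x ∈ (M : Subgroup G) → x = 1 := by
    intro x hx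
    refine hfinj (Eq.trans ?_ f.map_one.symm)
    have h3 := hexp _ hx
    have h8' : f x ^ 8 = 1 := by rw [← map_pow, h8, map_one]
    calc f x = f x ^ (3 * 3) := by
          rw [show 3 * 3 = 8 + 1 from rfl, pow_succ, h8', one_mul]
      _ = 1 := by rw [pow_mul, h3, one_pow]
  have hfaith : ∀ x, (∀ t ∈ (M : Subgroup G), f x * t * (f x)⁻¹ = t) → x = 1 := fun x h => hone x (by
    rw [← hCM, mem_centralizer_iff]
    exact fun t ht => (mul_inv_eq_iff_eq_mul.mp (h t ht)).symm)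
  set s := f (DihedralGroup.sr 0) with hs
  set r := f (DihedralGroup.r 1) with hr
  set z := f (DihedralGroup.r 2) with hz
  have rel : ∀ {u v : DihedralGroup 4}, u = v → f u = f v := fun h => congrArg f h
  have hss : s * s = 1 := by rw [hs, ← map_mul, ← map_one f]; exact rel (by decide)
  have hrr : r * r = z := by rw [hr, hz, ← map_mul]; exact rel (by decide)
  have hzz : z * z = 1 := by rw [hz, ← map_mul, ← map_one f]; exact rel (by decide)
  have hsr : s * r = r * z * s := by rw [hs, hr, hz, ← map_mul, ← map_mul, ← map_mul]; exact rel (by decide)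
  have hru : (r * s) * (r * s) = 1 := by
    rw [hs, hr, ← map_mul, ← map_mul, ← map_one f]; exact rel (by decide)
  have hsz : Commute (r * r) s := by
    rw [hs, hr, ← map_mul]; exact (show Commute _ _ from by rw [Commute, SemiconjBy, ← map_mul, ← map_mul]; exact rel (by decide))
  have hzN : z ∈ N := hfN _
  have hzinvol : ∀ t : G, z * (z * t * z⁻¹) * z⁻¹ = t := fun t => by
    rw [show z⁻¹ = z from inv_eq_of_mul_eq_one_right hzz]
    calc z * (z * t * z) * z = (z * z) * t * (z * z) := by group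
      _ = t := by rw [hzz, one_mul, mul_one]
  -- the central involution inverts
  have hzinv : ∀ t ∈ (M : Subgroup G), z * t * z⁻¹ = t⁻¹ := by
    by_contra hcon
    push Not at hcon
    obtain ⟨t₀, ht₀, ht₀'⟩ := hcon
    set c := t₀ * (z * t₀ * z⁻¹) with hc
    have hcM : c ∈ (M : Subgroup G) := mul_mem ht₀ (hNmem z hzN t₀ ht₀)
    have hc1 : c ≠ 1 := fun h => ht₀' (eq_inv_of_mul_eq_one_right h)
    have hzc : z * c * z⁻¹ = c := by
      rw [hc, show z * (t₀ * (z * t₀ * z⁻¹)) * z⁻¹ = (z * t₀ * z⁻¹) * (z * (z * t₀ * z⁻¹) * z⁻¹) by group, hzinvol]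
      exact hMcomm _ (hNmem z hzN t₀ ht₀) _ ht₀
    let J : Subgroup G :=
      { carrier := {t | t ∈ (M : Subgroup G) ∧ z * t * z⁻¹ = t⁻¹}
        one_mem' := ⟨one_mem _, by group⟩
        mul_mem' := fun {u v} hu hv => ⟨mul_mem hu.1 hv.1, by
          rw [show z * (u * v) * z⁻¹ = (z * u * z⁻¹) * (z * v * z⁻¹) by group, hu.2, hv.2, mul_inv_rev]
          exact hMcomm _ (inv_mem hu.1) _ (inv_mem hv.1)⟩
        inv_mem' := fun {u} hu => ⟨inv_mem hu.1, by
          rw [show z * u⁻¹ * z⁻¹ = (z * u * z⁻¹)⁻¹ by group, hu.2]⟩ }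
    have hcJ : c ∉ J := fun h => Cfsg.Agent.S3805.ne_inv_of_pow_three (hexp c hcM) hc1 (h.2.symm.trans hzc)
    obtain ⟨j, hjJ, hj1⟩ : ∃ j ∈ J, j ≠ 1 := by
      by_contra hJ
      push Not at hJ
      refine absurd (hfaith (DihedralGroup.r 2) fun t ht => ?_) (by decide)
      have hmem : t * (z * t * z⁻¹)⁻¹ ∈ J := ⟨mul_mem ht (inv_mem (hNmem z hzN t ht)), by
        rw [show z * (t * (z * t * z⁻¹)⁻¹) * z⁻¹ = (z * t * z⁻¹) * (z * (z * t * z⁻¹) * z⁻¹)⁻¹ by group, hzinvol,
          mul_inv_rev, inv_inv]⟩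
      have h := mul_inv_eq_one.mp (hJ _ hmem)
      exact h.symm
    have hJle : J ≤ (M : Subgroup G) := fun t ht => ht.1
    have hJcard : Nat.card J = 3 := by
      obtain ⟨k, hk, hk'⟩ := (Nat.dvd_prime_pow Nat.prime_three).mp
        (show Nat.card J ∣ 3 ^ 2 by have := card_dvd_of_le hJle; rwa [hM9] at this)
      interval_cases k
      · exact absurd ((eq_bot_iff_card _).mpr hk') (fun h => hj1 (by rw [h] at hjJ; exact mem_bot.mp hjJ))
      · exact hk'
      · exact absurd (eq_of_le_of_card_ge hJle (by rw [hk', hM9]; norm_num)) (fun h => hcJ (h ▸ hcM))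
    have hJz : zpowers j = J := eq_of_le_of_card_ge (zpowers_le.mpr hjJ) (by
      rw [hJcard, Nat.card_zpowers, orderOf_eq_prime (hexp j hjJ.1) hj1])
    have hrj : r * j * r⁻¹ ∈ J := ⟨hNmem r (hfN _) j hjJ.1, by
      have hzr : z * r = r * z := by rw [← hrr, mul_assoc]
      calc z * (r * j * r⁻¹) * z⁻¹ = (z * r) * j * (z * r)⁻¹ := by group
        _ = r * (z * j * z⁻¹) * r⁻¹ := by rw [hzr]; group
        _ = _ := by rw [hjJ.2]; group⟩
    rw [← hJz] at hrj
    obtain ⟨i, hi⟩ := mem_zpowers_iff.mp hrj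
    have hzj : z * j * z⁻¹ = j ^ (i * i) := by
      rw [zpow_mul, hi, conj_zpow, hi, ← hrr]; group
    rw [hjJ.2] at hzj
    have ho : orderOf j = 3 := orderOf_eq_prime (hexp j hjJ.1) hj1
    have hdvd : (3 : ℤ) ∣ i * i + 1 := by
      have h1 : j ^ (i * i + 1) = 1 := by rw [zpow_add, zpow_one, ← hzj, inv_mul_cancel]
      have := orderOf_dvd_iff_zpow_eq_one.mpr h1
      rwa [ho] at this
    have : ∀ a : ZMod 3, a * a + 1 ≠ 0 := by decide
    exact this (i : ZMod 3) (by exact_mod_cast (ZMod.intCast_zmod_eq_zero_iff_dvd _ 3).mpr hdvd)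
  -- a fixed point of the reflection
  obtain ⟨t, ht, ht'⟩ : ∃ t ∈ (M : Subgroup G), s * t * s⁻¹ ≠ t⁻¹ := by
    by_contra h
    push Not at h
    refine absurd (hfaith (DihedralGroup.sr 0 * DihedralGroup.r 2) fun t ht => ?_) (by decide)
    rw [map_mul, ← hs, ← hz, show s * z * t * (s * z)⁻¹ = s * (z * t * z⁻¹) * s⁻¹ by group, hzinv t ht,
      h _ (inv_mem ht), inv_inv]
  have hsN : s ∈ N := hfN _
  have hrN : r ∈ N := hfN _
  obtain ⟨a, ha⟩ : ∃ a, a = t * (s * t * s⁻¹) := ⟨_, rfl⟩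
  obtain ⟨b, hb⟩ : ∃ b, b = r * a * r⁻¹ := ⟨_, rfl⟩
  have haM : a ∈ (M : Subgroup G) := ha ▸ mul_mem ht (hNmem s hsN t ht)
  have hbM : b ∈ (M : Subgroup G) := hb ▸ hNmem r hrN a haM
  have ha1 : a ≠ 1 := fun h => ht' (eq_inv_of_mul_eq_one_right (ha.symm.trans h))
  have hb1 : b ≠ 1 := fun h => ha1 (conj_eq_one_iff.mp (hb.symm.trans h))
  have hsa : s * a * s⁻¹ = a := by
    rw [ha, show s * (t * (s * t * s⁻¹)) * s⁻¹ = (s * t * s⁻¹) * (s * s * t * (s * s)⁻¹) by group, hss, one_mul,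
      inv_one, mul_one]
    exact hMcomm _ (hNmem s hsN t ht) _ ht
  have hsb : s * b * s⁻¹ = b⁻¹ := by
    rw [hb, show s * (r * a * r⁻¹) * s⁻¹ = (s * r) * a * (s * r)⁻¹ by group, hsr,
      show r * z * s * a * (r * z * s)⁻¹ = r * (z * (s * a * s⁻¹) * z⁻¹) * r⁻¹ by group, hsa, hzinv a haM]
    group
  have hrb : r * b * r⁻¹ = a⁻¹ := by
    rw [hb, show r * (r * a * r⁻¹) * r⁻¹ = (r * r) * a * (r * r)⁻¹ by group, hrr, hzinv a haM]
  have ha3 := hexp a haM
  have hb3 := hexp b hbM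
  have hadd : ∀ p q, pw a b (p + q) = pw a b p * pw a b q := by
    intro p q
    have h := hMcomm _ (pow_mem haM q.1.val) _ (pow_mem hbM p.2.val)
    rw [pw, pw, pw, Prod.fst_add, Prod.snd_add, Cfsg.Agent.S3805.pow_val_add ha3, Cfsg.Agent.S3805.pow_val_add hb3]
    calc a ^ p.1.val * a ^ q.1.val * (b ^ p.2.val * b ^ q.2.val)
        = a ^ p.1.val * (a ^ q.1.val * b ^ p.2.val) * b ^ q.2.val := by group
      _ = _ := by rw [h]; group
  have hsq : ∀ x : G, x ^ 3 = 1 → ∀ i : ZMod 3, x ^ (2 * i).val = x⁻¹ ^ i.val := fun x hx i => by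
    rw [Cfsg.Agent.S3805.pow_val_mul hx, show (2 : ZMod 3).val = 2 from rfl,
      show x ^ 2 = x⁻¹ from eq_inv_of_mul_eq_one_left (by rw [← pow_succ]; exact hx)]
  have hconjs : ∀ p, s * pw a b p * s⁻¹ = pw a b (p.1, 2 * p.2) := by
    intro p
    rw [pw, show s * (a ^ p.1.val * b ^ p.2.val) * s⁻¹ = (s * a * s⁻¹) ^ p.1.val * (s * b * s⁻¹) ^ p.2.val by
      rw [conj_pow, conj_pow]; group, hsa, hsb, pw, hsq b hb3]
  have hconjr : ∀ p, r * pw a b p * r⁻¹ = pw a b (rot p) := by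
    intro p
    rw [pw, show r * (a ^ p.1.val * b ^ p.2.val) * r⁻¹ = (r * a * r⁻¹) ^ p.1.val * (r * b * r⁻¹) ^ p.2.val by
      rw [conj_pow, conj_pow]; group, ← hb, hrb, pw]
    show _ = a ^ (2 * p.2).val * b ^ p.1.val
    rw [hsq a ha3]
    exact hMcomm _ (pow_mem hbM _) _ (pow_mem (inv_mem haM) _)
  have hzero : pw a b 0 = 1 := by simp [pw]
  have hone' : ∀ x : G, x ^ 3 = 1 → x ≠ 1 → ∀ i : ZMod 3, x ^ i.val = 1 → i = 0 := by
    intro x hx hx1 i hi
    rw [← orderOf_dvd_iff_pow_eq_one, orderOf_eq_prime hx hx1] at hi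
    have := ZMod.val_lt i
    exact (ZMod.val_eq_zero i).mp (by omega)
  have hinj : Function.Injective (pw a b) := by
    intro p q hpq
    have h0 : pw a b (p - q) = 1 := by
      have h := hadd (p - q) q
      rw [sub_add_cancel, hpq] at h
      exact right_eq_mul.mp h
    obtain ⟨v, hv⟩ : ∃ v, v = p - q := ⟨_, rfl⟩
    rw [← hv] at h0
    have h1 : pw a b (v.1, 2 * v.2) = 1 := by rw [← hconjs, h0]; group
    have h2 : pw a b (v + (v.1, 2 * v.2)) = 1 := by rw [hadd, h0, h1, one_mul]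
    have e1 : v + (v.1, 2 * v.2) = (2 * v.1, (0 : ZMod 3)) := by
      refine Prod.ext ?_ ?_ <;> simp only [Prod.fst_add, Prod.snd_add]
      · ring
      · rw [show v.2 + 2 * v.2 = 3 * v.2 by ring, show (3 : ZMod 3) = 0 from rfl, zero_mul]
    rw [e1] at h2
    have h3 := hone' a ha3 ha1 _ (by simpa [pw] using h2)
    have hv1 : v.1 = 0 := (by decide : ∀ i : ZMod 3, 2 * i = 0 → i = 0) _ h3
    have hv2 := hone' b hb3 hb1 v.2 (by simpa [pw, hv1] using h0)
    exact sub_eq_zero.mp (hv ▸ Prod.ext hv1 hv2 : p - q = 0)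
  have hmem : ∀ x, x ∈ (M : Subgroup G) ↔ ∃ p, pw a b p = x := by
    let ι : ZMod 3 × ZMod 3 → (M : Subgroup G) := fun p => ⟨pw a b p, mul_mem (pow_mem haM _) (pow_mem hbM _)⟩
    have he : Function.Bijective ι := (Nat.bijective_iff_injective_and_card ι).mpr
      ⟨fun p q h => hinj (congrArg Subtype.val h), by rw [hM9]; simp⟩
    intro x
    refine ⟨fun hx => ?_, fun ⟨p, hp⟩ => hp ▸ (ι p).2⟩
    obtain ⟨p, hp⟩ := he.2 ⟨x, hx⟩
    exact ⟨p, congrArg Subtype.val hp⟩
  refine ⟨a, b, s, r, hmem, hinj, hadd, hsN, hrN, hconjs, hconjr, hss, hru, hsz, ?_⟩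
  -- every element of `N` is monomial
  let P : G → Prop := fun m => ∀ p, p ≠ 0 → ∃ q, Ty p q ∧ m * pw a b p * m⁻¹ = pw a b q
  have hPmul : ∀ m m', P m → P m' → P (m * m') := fun m m' hm hm' p hp => by
    obtain ⟨q, hq, hq'⟩ := hm' p hp
    obtain ⟨q', hq2, hq2'⟩ := hm q hq.2.1
    exact ⟨q', ⟨hp, hq2.2.1, hq.2.2.trans hq2.2.2⟩, by
      rw [show m * m' * pw a b p * (m * m')⁻¹ = m * (m' * pw a b p * m'⁻¹) * m⁻¹ by group, hq', hq2']⟩
  have hPM : ∀ m ∈ (M : Subgroup G), P m := fun m hm p hp => ⟨p, ⟨hp, hp, Iff.rfl⟩, by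
    rw [hMcomm m hm _ ((hmem _).mpr ⟨p, rfl⟩), mul_inv_cancel_right]⟩
  have hPs : P s := fun p hp => ⟨_, ty_flip p hp, hconjs p⟩
  have hPr : P r := fun p hp => ⟨_, ty_rot p hp, hconjr p⟩
  have hPf : ∀ x, P (f x) := by
    have hgen : ∀ x : DihedralGroup 4, ∃ i : Fin 4, x = DihedralGroup.r 1 ^ i.val ∨
        x = DihedralGroup.sr 0 * DihedralGroup.r 1 ^ i.val := by decide
    have hpow : ∀ i : ℕ, P (r ^ i) := fun i => by
      induction i with
      | zero => rw [pow_zero]; exact hPM 1 (one_mem _)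
      | succ i ih => rw [pow_succ]; exact hPmul _ _ ih hPr
    intro x
    obtain ⟨i, hi | hi⟩ := hgen x <;> rw [hi]
    · rw [map_pow]; exact hpow _
    · rw [map_mul, map_pow]; exact hPmul _ _ hPs (hpow _)
  intro m hm
  obtain ⟨t', ht', x, rfl⟩ : ∃ t' ∈ (M : Subgroup G), ∃ x, t' * f x = m := by
    let F : ↥(M : Subgroup G) × DihedralGroup 4 → N := fun w => ⟨(w.1 : G) * f w.2, mul_mem (hMN w.1.2) (hfN _)⟩
    have h72 := card_normalizer M hM9 hCM hN S (by
      rw [Nat.card_congr e.toEquiv, DihedralGroup.nat_card])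
    have hF : Function.Bijective F := (Nat.bijective_iff_injective_and_card F).mpr ⟨fun w w' hw => by
      have hw' : (w.1 : G) * f w.2 = w'.1 * f w'.2 := congrArg Subtype.val hw
      have h1 : f (w.2 * w'.2⁻¹) ∈ (M : Subgroup G) := by
        rw [map_mul, map_inv]
        have : f w.2 * (f w'.2)⁻¹ = (w.1 : G)⁻¹ * w'.1 := by
          calc _ = (w.1 : G)⁻¹ * ((w.1 : G) * f w.2) * (f w'.2)⁻¹ := by group
            _ = _ := by rw [hw']; group
        rw [this]; exact mul_mem (inv_mem w.1.2) w'.1.2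
      have h2 : w.2 = w'.2 := mul_inv_eq_one.mp (hone _ h1)
      rw [h2] at hw'
      exact Prod.ext (Subtype.ext (mul_right_cancel hw')) h2, by
      rw [Nat.card_prod, hM9, DihedralGroup.nat_card, h72]⟩
    obtain ⟨w, hw⟩ := hF.2 ⟨m, hm⟩
    exact ⟨w.1, w.1.2, w.2, congrArg Subtype.val hw⟩
  exact hPmul _ _ (hPM _ ht') (hPf x)

end

theorem centralizer_twisted {G : Type*} [Group G] [Finite G] {c v : G} (hcv : Commute c v) (hc : c ^ 3 = 1)
    (hv : v * v = 1) (hv1 : v ≠ 1) (hc1 : c ≠ 1) (h18 : Nat.card (centralizer ({c} : Set G)) = 18)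
    (hnot : ∃ t ∈ centralizer ({c} : Set G), ¬ Commute t v) :
    (c * v) ^ 6 = 1 ∧ (c * v) ^ 4 = c ∧ (c * v) ^ 3 ≠ 1 ∧ Nat.card (centralizer ({c * v} : Set G)) = 6 := by
  have hv2 : v ^ 2 = 1 := by rw [sq, hv]
  have h4 : (c * v) ^ 4 = c := by
    rw [hcv.mul_pow, show v ^ 4 = (v ^ 2) ^ 2 by rw [← pow_mul], hv2, one_pow, mul_one, pow_succ, hc, one_mul]
  have h3 : (c * v) ^ 3 = v := by
    rw [hcv.mul_pow, hc, one_mul, pow_succ, hv2, one_mul]
  have h6 : (c * v) ^ 6 = 1 := by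
    rw [show 6 = 3 * 2 from rfl, pow_mul, h3, hv2]
  refine ⟨h6, h4, by rw [h3]; exact hv1, ?_⟩
  set g := c * v with hg
  have hle : centralizer ({g} : Set G) ≤ centralizer ({c} : Set G) := fun x hx => by
    rw [mem_centralizer_singleton_iff] at hx ⊢
    rw [← h4]
    exact (Commute.pow_right (show Commute x g from hx) 4).eq
  have hdvd := card_dvd_of_le hle
  rw [h18] at hdvd
  have hord : orderOf g = 6 := by
    rw [orderOf_eq_iff (by norm_num)]
    refine ⟨h6, fun m hm hm0 h => ?_⟩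
    have hd : orderOf g ∣ m := orderOf_dvd_of_pow_eq_one h
    have hd6 : orderOf g ∣ 6 := orderOf_dvd_of_pow_eq_one h6
    have h3' : ¬ orderOf g ∣ 3 := fun h' => hv1 (h3 ▸ orderOf_dvd_iff_pow_eq_one.mp h')
    have h4' : ¬ orderOf g ∣ 4 := fun h' => hc1 (h4 ▸ orderOf_dvd_iff_pow_eq_one.mp h')
    obtain ⟨o, ho⟩ : ∃ o, orderOf g = o := ⟨_, rfl⟩
    rw [ho] at hd hd6 h3' h4'
    have hle' : o ≤ m := Nat.le_of_dvd hm0 hd
    have hpos : 0 < o := ho ▸ orderOf_pos g
    have : o < 6 := by omega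
    interval_cases o <;> omega
  have hgC : g ∈ centralizer ({g} : Set G) := mem_centralizer_singleton_iff.mpr rfl
  have h6' := Subgroup.orderOf_dvd_natCard _ hgC
  rw [hord] at h6'
  have hne : Nat.card (centralizer ({g} : Set G)) ≠ 18 := fun h => by
    obtain ⟨t, ht, htv⟩ := hnot
    rw [← eq_of_le_of_card_ge hle (by rw [h, h18]), mem_centralizer_singleton_iff] at ht
    refine htv ?_
    rw [← h3]
    exact (show Commute t g from ht).pow_right 3
  have hle' := Nat.le_of_dvd (by norm_num) hdvd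
  obtain ⟨k, hk⟩ := h6'
  rw [hk] at hdvd hne hle' ⊢
  have : k ≤ 3 := by omega
  interval_cases k <;> omega

theorem rot_iterate_conj {G : Type*} [Group G] {a b r : G}
    (hr : ∀ p, r * pw a b p * r⁻¹ = pw a b (rot p)) (i : ℕ) (p : ZMod 3 × ZMod 3) :
    r ^ i * pw a b p * (r ^ i)⁻¹ = pw a b (rot^[i] p) := by
  induction i generalizing p with
  | zero => simp
  | succ i ih =>
    rw [Function.iterate_succ_apply, ← ih, ← hr p, pow_succ]
    group

set_option maxHeartbeats 1000000 in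
/-- The local data. -/
theorem exists_local {G : Type*} [Group G] [Fintype G] (M : Sylow 3 G)
    (hM9 : Nat.card (M : Subgroup G) = 9) (hexp : ∀ m ∈ (M : Subgroup G), m ^ 3 = 1)
    (hCM : centralizer ((M : Subgroup G) : Set G) = (M : Subgroup G))
    {N : Subgroup G} (hN : N = normalizer ((M : Subgroup G) : Set G))
    (hCg : ∀ g ∈ (M : Subgroup G), g ≠ 1 → centralizer ({g} : Set G) ≤ N)
    (hS : ∀ S : Sylow 2 N, Nonempty ((S : Subgroup N) ≃* DihedralGroup 4)) :
    Nonempty (Local G N.index) := by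
  classical
  have hMc : IsMulCommutative (M : Subgroup G) := ⟨⟨fun x y => Subtype.ext (by
    have hy : (y : G) ∈ centralizer ((M : Subgroup G) : Set G) := by rw [hCM]; exact y.2
    exact mem_centralizer_iff.mp hy x x.2)⟩⟩
  obtain ⟨S⟩ := (inferInstance : Nonempty (Sylow 2 N))
  obtain ⟨e⟩ := hS S
  obtain ⟨a, b, s, r, hmem, hinj, hadd, hsN, hrN, hs, hr, hss, hru, hzs, hmono⟩ :=
    exists_basis M hMc hM9 hexp hCM hN S e
  have h72 := card_normalizer M hM9 hCM hN S (by rw [Nat.card_congr e.toEquiv, DihedralGroup.nat_card])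
  have hMN : (M : Subgroup G) ≤ N := hN ▸ le_normalizer
  have hzero : pw a b 0 = 1 := by simp [pw]
  have hpM : ∀ p, pw a b p ∈ (M : Subgroup G) := fun p => (hmem _).mpr ⟨p, rfl⟩
  have hne : ∀ p, p ≠ 0 → pw a b p ≠ 1 := fun p hp h => hp (hinj (h.trans hzero.symm))
  have hord : ∀ p, p ≠ 0 → orderOf (pw a b p) = 3 := fun p hp =>
    orderOf_eq_prime (hexp _ (hpM p)) (hne p hp)
  have hN3' : ∀ Q : Subgroup G, IsPGroup 3 Q → Q ≤ N → Q ≤ (M : Subgroup G) := fun Q hQ' hle =>
    le_sup_left.trans (M.is_maximal' (hQ'.to_sup_of_normal_right' M.isPGroup' (hN ▸ hle)) le_sup_right).le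
  have hN3 : ∀ w, w ∈ normalizer ((M : Subgroup G) : Set G) → w ^ 3 = 1 → w ∈ (M : Subgroup G) := fun w hw hw3 =>
    hN3' (zpowers w) (fun c => ⟨1, by
      obtain ⟨_, i, rfl⟩ := c
      refine Subtype.ext ?_
      rw [pow_one, Subgroup.coe_pow]
      show (w ^ i) ^ 3 = 1
      rw [← zpow_natCast, ← zpow_mul, mul_comm, zpow_mul, zpow_natCast, hw3, one_zpow]⟩)
      (zpowers_le.mpr (hN ▸ hw)) (mem_zpowers w)
  have hTI : ∀ P : Sylow 3 G, ∀ t ∈ (M : Subgroup G), t ≠ 1 → t ∈ (P : Subgroup G) → P = M := by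
    intro P t ht ht1 htP
    have hPc : ∀ c ∈ (P : Subgroup G), c * t = t * c := fun c hc => by
      let e := P.equiv M
      exact congrArg Subtype.val (e.injective (show e (⟨c, hc⟩ * ⟨t, htP⟩) = e (⟨t, htP⟩ * ⟨c, hc⟩) by
        rw [map_mul, map_mul]; exact hMc.is_comm.comm _ _))
    have hle : (P : Subgroup G) ≤ (M : Subgroup G) := hN3' _ P.isPGroup' fun c hc =>
      hCg t ht ht1 (mem_centralizer_singleton_iff.mpr (hPc c hc))
    exact Sylow.ext (P.is_maximal' M.isPGroup' hle).symm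
  have hfus : ∀ g : G, ∀ t ∈ (M : Subgroup G), t ≠ 1 → g * t * g⁻¹ ∈ (M : Subgroup G) →
      g ∈ normalizer ((M : Subgroup G) : Set G) := by
    intro g t ht ht1 hgt
    have h := hTI (g • M) (g * t * g⁻¹) hgt (fun e => ht1 (conj_eq_one_iff.mp e))
      (Subgroup.smul_mem_pointwise_smul t (MulAut.conj g) _ ht)
    exact Sylow.smul_eq_iff_mem_normalizer.mp h
  have hloc : ∀ t ∈ (M : Subgroup G), t ≠ 1 → centralizer ({t} : Set G) ≤ normalizer ((M : Subgroup G) : Set G) :=
    fun t ht ht1 => hN ▸ hCg t ht ht1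
  have hconj : ∀ p q, p ≠ 0 → (IsConj (pw a b p) (pw a b q) ↔ Ty p q) := by
    intro p q hp
    constructor
    · intro h
      obtain ⟨g, hg⟩ := isConj_iff.mp h
      obtain ⟨q', hq', hq''⟩ := hmono g (hN ▸ hfus g _ (hpM p) (hne p hp) (hg ▸ hpM q)) p hp
      rwa [show q = q' from hinj (hg.symm.trans hq'')]
    · intro h
      obtain ⟨i, rfl⟩ := exists_rot p q h
      exact isConj_iff.mpr ⟨r ^ i.val, rot_iterate_conj hr i p⟩
  have hinvpw : ∀ p, (pw a b p)⁻¹ = pw a b (-p) := fun p =>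
    inv_eq_of_mul_eq_one_right (by rw [← hadd, add_neg_cancel, hzero])
  have hneg : ∀ p : ZMod 3 × ZMod 3, p ≠ 0 → Ty p (-p) := by decide
  have hrealp : ∀ p, p ≠ 0 → IsConj (pw a b p) (pw a b p)⁻¹ := fun p hp => by
    rw [hinvpw, hconj p (-p) hp]; exact hneg p hp
  have hreal : ∀ w : G, orderOf w = 3 → IsConj w w⁻¹ := by
    intro w hw
    obtain ⟨P, hP⟩ := (IsPGroup.of_card (G := zpowers w) (p := 3) (n := 1)
      (by rw [Nat.card_zpowers, hw, pow_one])).exists_le_sylow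
    obtain ⟨g, hg⟩ := MulAction.exists_smul_eq G P M
    have hgw : g * w * g⁻¹ ∈ (M : Subgroup G) := by
      rw [← hg]
      exact Subgroup.smul_mem_pointwise_smul w (MulAut.conj g) _ (hP (mem_zpowers w))
    obtain ⟨p, hp⟩ := (hmem _).mp hgw
    have hp0 : p ≠ 0 := by
      rintro rfl
      rw [hzero, eq_comm, conj_eq_one_iff] at hp
      rw [hp, orderOf_one] at hw
      omega
    have h1 : IsConj w (pw a b p) := isConj_iff.mpr ⟨g, hp.symm⟩
    have h2 : IsConj w⁻¹ (pw a b p)⁻¹ := isConj_iff.mpr ⟨g, by rw [hp]; group⟩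
    exact h1.trans ((hrealp p hp0).trans h2.symm)
  -- centralizer orders
  have hcent : ∀ p, p ≠ 0 → ((Finset.univ : Finset (ZMod 3 × ZMod 3)).filter (Ty p)).card = 4 →
      Nat.card (centralizer ({pw a b p} : Set G)) = 18 := by
    intro p hp h4
    have hle : centralizer ({pw a b p} : Set G) ≤ N := hCg _ (hpM p) (hne p hp)
    set c : N := ⟨pw a b p, hMN (hpM p)⟩ with hc
    have hcls : (CfsgLib.ClassCount.cls c).card = 4 := by
      rw [← h4]
      symm
      refine Finset.card_bij (fun q _ => (⟨pw a b q, hMN (hpM q)⟩ : N)) (fun q hq => ?_)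
        (fun q _ q' _ h => hinj (congrArg Subtype.val h)) (fun x hx => ?_)
      · obtain ⟨i, rfl⟩ := exists_rot p q (Finset.mem_filter.mp hq).2
        rw [CfsgLib.ClassCount.mem_cls, isConj_iff]
        exact ⟨⟨r ^ i.val, pow_mem hrN _⟩, Subtype.ext (rot_iterate_conj hr i p)⟩
      · obtain ⟨m, hm⟩ := isConj_iff.mp (CfsgLib.ClassCount.mem_cls.mp hx)
        obtain ⟨q, hq, hq'⟩ := hmono m m.2 p hp
        refine ⟨q, Finset.mem_filter.mpr ⟨Finset.mem_univ _, hq⟩, Subtype.ext ?_⟩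
        rw [← hm]; exact hq'.symm
    have h := CfsgLib.ClassCount.card_cls_mul_centralizer c
    rw [hcls, h72] at h
    have he : (centralizer ({pw a b p} : Set G)).subgroupOf N = centralizer ({c} : Set N) := by
      ext x
      rw [mem_subgroupOf, mem_centralizer_singleton_iff, mem_centralizer_singleton_iff, Subtype.ext_iff]
      rfl
    rw [← he, Nat.card_congr (subgroupOfEquivOfLe hle).toEquiv] at h
    omega
  have hca := hcent (1, 0) (by decide) (by decide)
  have hcd := hcent (1, 1) (by decide) (by decide)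
  -- elements of order six
  set z := r * r with hz
  have hzc : ∀ p, z * pw a b p * z⁻¹ = (pw a b p)⁻¹ := fun p => by
    rw [hinvpw, hz, ← sq, rot_iterate_conj hr 2]
    exact congrArg _ ((by decide : ∀ p : ZMod 3 × ZMod 3, rot^[2] p = -p) p)
  set u := r * s with hu
  have huc : ∀ p, u * pw a b p * u⁻¹ = pw a b (p.2, p.1) := fun p => by
    rw [hu, show r * s * pw a b p * (r * s)⁻¹ = r * (s * pw a b p * s⁻¹) * r⁻¹ by group, hs, hr]
    exact congrArg _ (rot_flip p)
  have hzu : Commute z u := by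
    rw [hu]; exact (show Commute (r * r) r from (Commute.refl r).mul_left (Commute.refl r)).mul_right hzs
  have hcomm : ∀ v c : G, v * c * v⁻¹ = c → Commute c v := fun v c h => (mul_inv_eq_iff_eq_mul.mp h).symm
  have hv1 : ∀ (v : G) p q, v * pw a b p * v⁻¹ = pw a b q → p ≠ q → v ≠ 1 := fun v p q h hpq h1 => by
    subst h1
    exact hpq (hinj (by simpa using h))
  have hnotc : ∀ (v c : G) p q, v * pw a b p * v⁻¹ = pw a b q → p ≠ q → c ∈ (M : Subgroup G) →
      ∃ t ∈ centralizer ({c} : Set G), ¬ Commute t v := fun v c p q h hpq hcM =>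
    ⟨pw a b p, mem_centralizer_singleton_iff.mpr (congrArg Subtype.val (hMc.is_comm.comm ⟨_, hpM p⟩ ⟨c, hcM⟩)),
      fun hc => hpq (hinj (by rw [← h, ← hc.eq, mul_inv_cancel_right]))⟩
  have hinva : ∀ c v : G, Commute c v → v * v = 1 → Commute z v → z * c * z⁻¹ = c⁻¹ → IsConj (c * v) (c * v)⁻¹ :=
    fun c v hcv hvv hzv hzc' => isConj_iff.mpr ⟨z, by
      rw [show z * (c * v) * z⁻¹ = (z * c * z⁻¹) * (z * v * z⁻¹) by group, hzc', hzv.eq, mul_inv_cancel_right,
        hcv.eq, mul_inv_rev, show v⁻¹ = v from inv_eq_of_mul_eq_one_right hvv]⟩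
  have hsa : Commute (pw a b (1, 0)) s := hcomm _ _ (by rw [hs]; rfl)
  have hud : Commute (pw a b (1, 1)) u := hcomm _ _ (by rw [huc])
  obtain ⟨hg6, hg4, hg3, hcg⟩ := centralizer_twisted hsa (hexp _ (hpM _)) hss
    (hv1 s (0, 1) _ (hs _) (by decide)) (hne _ (by decide)) hca (hnotc s _ (0, 1) _ (hs _) (by decide) (hpM _))
  obtain ⟨hh6, hh4, hh3, hch⟩ := centralizer_twisted hud (hexp _ (hpM _)) hru
    (hv1 u (1, 0) _ (huc _) (by decide)) (hne _ (by decide)) hcd (hnotc u _ (1, 0) _ (huc _) (by decide) (hpM _))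
  -- pairs
  have hpairs : ∀ p q w, p ≠ 0 → q ≠ 0 → w ≠ 0 → ¬ Ty p w →
      (CfsgLib.ClassCount.pairs (pw a b p) (pw a b q) {pw a b w}).card =
        ((Finset.univ : Finset ((ZMod 3 × ZMod 3) × (ZMod 3 × ZMod 3))).filter
          fun z => Ty p z.1 ∧ Ty q z.2 ∧ z.1 + z.2 = w).card := by
    intro p q w hp hq hw hnot
    symm
    refine Finset.card_bij (fun z _ => (pw a b z.1, pw a b z.2)) ?_ ?_ ?_
    · intro z hz
      obtain ⟨h1, h2, h3⟩ := (Finset.mem_filter.mp hz).2
      simp only [CfsgLib.ClassCount.pairs, Finset.mem_filter, Finset.mem_product, CfsgLib.ClassCount.mem_cls,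
        Finset.mem_singleton]
      exact ⟨⟨(hconj p z.1 hp).mpr h1, (hconj q z.2 hq).mpr h2⟩, by rw [← hadd, h3]⟩
    · intro z _ z' _ h
      simp only [Prod.mk.injEq] at h
      exact Prod.ext (hinj h.1) (hinj h.2)
    · rintro ⟨x, y⟩ h
      simp only [CfsgLib.ClassCount.pairs, Finset.mem_filter, Finset.mem_product, CfsgLib.ClassCount.mem_cls,
        Finset.mem_singleton] at h
      obtain ⟨⟨hpx, hqy⟩, hxy⟩ := h
      have ho : ∀ {u w : G}, IsConj u w → orderOf w = orderOf u := fun {u w} h => by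
        obtain ⟨c, rfl⟩ := isConj_iff.mp h
        exact (MulAut.conj c).orderOf_eq u
      rcases Cfsg.Agent.S3805.mem_or_isConj M hMc hN3 hloc hfus hreal ((ho hpx).trans (hord p hp))
        ((ho hqy).trans (hord q hq))
        (by rw [hxy]; exact hord w hw) (by rw [hxy]; exact hpM w) with ⟨hxT, hyT⟩ | ⟨h1, h2⟩
      · obtain ⟨i, rfl⟩ := (hmem x).mp hxT
        obtain ⟨j, rfl⟩ := (hmem y).mp hyT
        rw [← hadd] at hxy
        exact ⟨(i, j), Finset.mem_filter.mpr ⟨Finset.mem_univ _,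
          (hconj p i hp).mp hpx, (hconj q j hq).mp hqy, hinj hxy⟩, rfl⟩
      · rw [hxy] at h2
        exact absurd ((hconj p w hp).mp (hpx.trans h2)) hnot
  -- the number of Sylow subgroups
  have hn9 : N.index % 9 = 1 := by
    rw [show N.index = Nat.card (Sylow 3 G) by rw [hN]; exact M.card_eq_index_normalizer.symm,
      Nat.card_eq_fintype_card]
    let := Fintype.ofFinite (M : Subgroup G)
    have hb := MulAction.sum_card_fixedBy_eq_card_orbits_mul_card_group (M : Subgroup G) (Sylow 3 G)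
    have hfix : ∀ t : (M : Subgroup G), t ≠ 1 → Fintype.card (MulAction.fixedBy (Sylow 3 G) t) = 1 := by
      intro t ht
      rw [Fintype.card_eq_one_iff]
      refine ⟨⟨M, ?_⟩, fun P => Subtype.ext ?_⟩
      · exact Sylow.smul_eq_iff_mem_normalizer.mpr (hN ▸ hMN t.2)
      · have h : (t : G) • P.1 = P.1 := P.2
        have h' : (t : G) ∈ normalizer ((P.1 : Subgroup G) : Set G) := Sylow.smul_eq_iff_mem_normalizer.mp h
        refine hTI P.1 t t.2 (fun e => ht (Subtype.ext e)) ?_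
        have hz : IsPGroup 3 (zpowers (t : G)) := M.isPGroup'.to_le (zpowers_le.mpr t.2)
        exact (le_sup_left.trans (P.1.is_maximal' (hz.to_sup_of_normal_right' P.1.isPGroup' (zpowers_le.mpr h'))
          le_sup_right).le) (mem_zpowers _)
    rw [← Finset.add_sum_erase _ _ (Finset.mem_univ (1 : (M : Subgroup G))),
      Finset.sum_congr rfl (fun t ht => hfix t (Finset.mem_erase.mp ht).1), Finset.sum_const, smul_eq_mul, mul_one,
      Finset.card_erase_of_mem (Finset.mem_univ _), Finset.card_univ,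
      ← Nat.card_eq_fintype_card (α := (M : Subgroup G)), hM9] at hb
    have h1f : Fintype.card (MulAction.fixedBy (Sylow 3 G) (1 : (M : Subgroup G))) = Fintype.card (Sylow 3 G) :=
      Fintype.card_congr (Equiv.subtypeUnivEquiv fun P => one_smul _ P)
    rw [h1f] at hb
    omega
  refine ⟨{
    card_eq := by rw [← h72, N.card_mul_index]
    mod_nine := hn9
    a := pw a b (1, 0)
    d := pw a b (1, 1)
    g := pw a b (1, 0) * s
    h := pw a b (1, 1) * u
    ord_a := hord _ (by decide)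
    ord_d := hord _ (by decide)
    g6 := hg6
    g4 := hg4
    g3 := hg3
    h6 := hh6
    h4 := hh4
    h3 := hh3
    real_a := hrealp _ (by decide)
    real_d := hrealp _ (by decide)
    real_g := hinva _ _ hsa hss hzs (hzc _)
    real_h := hinva _ _ hud hru hzu (hzc _)
    cent_a := hca
    cent_d := hcd
    cent_g := hcg
    cent_h := hch
    not_conj := by rw [hconj _ _ (by decide)]; decide
    pairs_a := ?_
    pairs_d := ?_
    sum_M := ?_ }⟩
  · rw [hpairs _ _ _ (by decide) (by decide) (by decide) (by decide)]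
    decide
  · rw [hpairs _ _ _ (by decide) (by decide) (by decide) (by decide)]
    decide
  · intro χ
    let := Fintype.ofFinite (M : Subgroup G)
    obtain ⟨m, hm⟩ := CfsgLib.ClassCount.exists_mult χ (M : Subgroup G)
    refine ⟨m, ?_⟩
    rw [hM9, Nat.cast_ofNat] at hm
    rw [← hm]
    let ι : ZMod 3 × ZMod 3 → (M : Subgroup G) := fun p => ⟨pw a b p, hpM p⟩
    have hb : Function.Bijective ι := (Nat.bijective_iff_injective_and_card ι).mpr
      ⟨fun p q h => hinj (congrArg Subtype.val h), by rw [hM9]; simp⟩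
    rw [← (Equiv.ofBijective ι hb).sum_comp]
    have hval : ∀ p : ZMod 3 × ZMod 3, (χ : G → ℂ) (((Equiv.ofBijective ι hb p : (M : Subgroup G)) : G))⁻¹ =
        if p = 0 then (χ : G → ℂ) 1 else if p.1 = 0 ∨ p.2 = 0 then (χ : G → ℂ) (pw a b (1, 0))
          else (χ : G → ℂ) (pw a b (1, 1)) := by
      intro p
      show (χ : G → ℂ) (pw a b p)⁻¹ = _
      rw [hinvpw]
      split_ifs with h0 hax
      · rw [h0, neg_zero, hzero]
      · refine (CfsgLib.Characters.classFunction_eq_of_isConj (CfsgLib.Characters.irr_isClassFunction _) ?_).symm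
        rw [hconj _ _ (by decide)]
        exact (by decide : ∀ p : ZMod 3 × ZMod 3, p ≠ 0 → (p.1 = 0 ∨ p.2 = 0) → Ty (1, 0) (-p)) p h0 hax
      · refine (CfsgLib.Characters.classFunction_eq_of_isConj (CfsgLib.Characters.irr_isClassFunction _) ?_).symm
        rw [hconj _ _ (by decide)]
        exact (by decide : ∀ p : ZMod 3 × ZMod 3, p ≠ 0 → ¬(p.1 = 0 ∨ p.2 = 0) → Ty (1, 1) (-p)) p h0 hax
    rw [Finset.sum_congr rfl fun p _ => hval p,
      show (Finset.univ : Finset (ZMod 3 × ZMod 3)) =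
        {((0 : ZMod 3), (0 : ZMod 3)), (0, 1), (0, 2), (1, 0), (2, 0), (1, 1), (1, 2), (2, 1), (2, 2)} by decide]
    repeat rw [Finset.sum_insert (by decide)]
    rw [Finset.sum_singleton]
    simp (config := { decide := true }) only [if_true, if_false]
    ring

end CfsgLib.DihedralNine
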